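import Cfsg.Agent.Lib.Helper9.TCData.Sz8A0.Main

set_option autoImplicit false
set_option maxRecDepth 1000000

namespace Cfsg.Agent.Helper9.TCData.Sz8A0
open Cfsg.Agent.Helper9.TC2

theorem e2_1 : allRange 2342 1434 (fun u => chkE tab 2 u) = true := by decide +kernel

theorem e2_2 : allRange 3776 384 (fun u => chkE tab 2 u) = true := by decide +kernel

theorem e3_0 : allRange 0 2582 (fun u => chkE tab 3 u) = true := by decide +kernel

theorem e3_1 : allRange 2582 1197 (fun u => chkE tab 3 u) = true := by decide +kernel

theorem e3_2 : allRange 3779 381 (fun u => chkE tab 3 u) = true := by decide +kernel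


end Cfsg.Agent.Helper9.TCData.Sz8A0
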