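import Cfsg.Agent.Lib.Helper9.TCData.Sz8A0.Main

set_option autoImplicit false
set_option maxRecDepth 1000000

namespace Cfsg.Agent.Helper9.TCData.Sz8A0
open Cfsg.Agent.Helper9.TC2

theorem m2_31 : allRange 651 21 (fun u => chkFix tab mwordsA u) = true := by decide +kernel

theorem m2_32 : allRange 672 21 (fun u => chkFix tab mwordsA u) = true := by decide +kernel

theorem m2_33 : allRange 693 21 (fun u => chkFix tab mwordsA u) = true := by decide +kernel

theorem m2_34 : allRange 714 21 (fun u => chkFix tab mwordsA u) = true := by decide +kernel

theorem m2_35 : allRange 735 21 (fun u => chkFix tab mwordsA u) = true := by decide +kernel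

theorem m2_36 : allRange 756 21 (fun u => chkFix tab mwordsA u) = true := by decide +kernel

theorem m2_37 : allRange 777 21 (fun u => chkFix tab mwordsA u) = true := by decide +kernel

theorem m2_38 : allRange 798 21 (fun u => chkFix tab mwordsA u) = true := by decide +kernel


end Cfsg.Agent.Helper9.TCData.Sz8A0
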