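import Cfsg.Agent.Lib.Helper9.TCData.Sz8A0.Main

set_option autoImplicit false
set_option maxRecDepth 1000000

namespace Cfsg.Agent.Helper9.TCData.Sz8A0
open Cfsg.Agent.Helper9.TC2

theorem m2_87 : allRange 1827 21 (fun u => chkFix tab mwordsA u) = true := by decide +kernel

theorem m2_88 : allRange 1848 21 (fun u => chkFix tab mwordsA u) = true := by decide +kernel

theorem m2_89 : allRange 1869 21 (fun u => chkFix tab mwordsA u) = true := by decide +kernel

theorem m2_90 : allRange 1890 21 (fun u => chkFix tab mwordsA u) = true := by decide +kernel

theorem m2_91 : allRange 1911 21 (fun u => chkFix tab mwordsA u) = true := by decide +kernel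

theorem m2_92 : allRange 1932 21 (fun u => chkFix tab mwordsA u) = true := by decide +kernel

theorem m2_93 : allRange 1953 21 (fun u => chkFix tab mwordsA u) = true := by decide +kernel

theorem m2_94 : allRange 1974 21 (fun u => chkFix tab mwordsA u) = true := by decide +kernel


end Cfsg.Agent.Helper9.TCData.Sz8A0
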