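import Cfsg.Agent.Lib.Helper9.TCData.Sz8A0.Main

set_option autoImplicit false
set_option maxRecDepth 1000000

namespace Cfsg.Agent.Helper9.TCData.Sz8A0
open Cfsg.Agent.Helper9.TC2

theorem m2_95 : allRange 1995 21 (fun u => chkFix tab mwordsA u) = true := by decide +kernel

theorem m2_96 : allRange 2016 21 (fun u => chkFix tab mwordsA u) = true := by decide +kernel

theorem m2_97 : allRange 2037 21 (fun u => chkFix tab mwordsA u) = true := by decide +kernel

theorem m2_98 : allRange 2058 21 (fun u => chkFix tab mwordsA u) = true := by decide +kernel

theorem m2_99 : allRange 2079 21 (fun u => chkFix tab mwordsA u) = true := by decide +kernel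

theorem m2_100 : allRange 2100 21 (fun u => chkFix tab mwordsA u) = true := by decide +kernel

theorem m2_101 : allRange 2121 21 (fun u => chkFix tab mwordsA u) = true := by decide +kernel

theorem m2_102 : allRange 2142 21 (fun u => chkFix tab mwordsA u) = true := by decide +kernel


end Cfsg.Agent.Helper9.TCData.Sz8A0
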