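import Cfsg.Agent.Lib.Helper9.TCData.Sz8A0.Main

set_option autoImplicit false
set_option maxRecDepth 1000000

namespace Cfsg.Agent.Helper9.TCData.Sz8A0
open Cfsg.Agent.Helper9.TC2

theorem m2_7 : allRange 147 21 (fun u => chkFix tab mwordsA u) = true := by decide +kernel

theorem m2_8 : allRange 168 21 (fun u => chkFix tab mwordsA u) = true := by decide +kernel

theorem m2_9 : allRange 189 21 (fun u => chkFix tab mwordsA u) = true := by decide +kernel

theorem m2_10 : allRange 210 21 (fun u => chkFix tab mwordsA u) = true := by decide +kernel

theorem m2_11 : allRange 231 21 (fun u => chkFix tab mwordsA u) = true := by decide +kernel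

theorem m2_12 : allRange 252 21 (fun u => chkFix tab mwordsA u) = true := by decide +kernel

theorem m2_13 : allRange 273 21 (fun u => chkFix tab mwordsA u) = true := by decide +kernel

theorem m2_14 : allRange 294 21 (fun u => chkFix tab mwordsA u) = true := by decide +kernel


end Cfsg.Agent.Helper9.TCData.Sz8A0
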