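import Cfsg.Agent.Lib.Helper9.TCData.Sz8A0.Main

set_option autoImplicit false
set_option maxRecDepth 1000000

namespace Cfsg.Agent.Helper9.TCData.Sz8A0
open Cfsg.Agent.Helper9.TC2

theorem m2_15 : allRange 315 21 (fun u => chkFix tab mwordsA u) = true := by decide +kernel

theorem m2_16 : allRange 336 21 (fun u => chkFix tab mwordsA u) = true := by decide +kernel

theorem m2_17 : allRange 357 21 (fun u => chkFix tab mwordsA u) = true := by decide +kernel

theorem m2_18 : allRange 378 21 (fun u => chkFix tab mwordsA u) = true := by decide +kernel

theorem m2_19 : allRange 399 21 (fun u => chkFix tab mwordsA u) = true := by decide +kernel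

theorem m2_20 : allRange 420 21 (fun u => chkFix tab mwordsA u) = true := by decide +kernel

theorem m2_21 : allRange 441 21 (fun u => chkFix tab mwordsA u) = true := by decide +kernel

theorem m2_22 : allRange 462 21 (fun u => chkFix tab mwordsA u) = true := by decide +kernel


end Cfsg.Agent.Helper9.TCData.Sz8A0
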