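import Cfsg.Agent.Lib.Helper9.TCData.Sz8A0.Main

set_option autoImplicit false
set_option maxRecDepth 1000000

namespace Cfsg.Agent.Helper9.TCData.Sz8A0
open Cfsg.Agent.Helper9.TC2

theorem m2_23 : allRange 483 21 (fun u => chkFix tab mwordsA u) = true := by decide +kernel

theorem m2_24 : allRange 504 21 (fun u => chkFix tab mwordsA u) = true := by decide +kernel

theorem m2_25 : allRange 525 21 (fun u => chkFix tab mwordsA u) = true := by decide +kernel

theorem m2_26 : allRange 546 21 (fun u => chkFix tab mwordsA u) = true := by decide +kernel

theorem m2_27 : allRange 567 21 (fun u => chkFix tab mwordsA u) = true := by decide +kernel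

theorem m2_28 : allRange 588 21 (fun u => chkFix tab mwordsA u) = true := by decide +kernel

theorem m2_29 : allRange 609 21 (fun u => chkFix tab mwordsA u) = true := by decide +kernel

theorem m2_30 : allRange 630 21 (fun u => chkFix tab mwordsA u) = true := by decide +kernel


end Cfsg.Agent.Helper9.TCData.Sz8A0
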