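import Cfsg.Agent.Lib.Helper9.TCData.Sz8A0.S0
import Cfsg.Agent.Lib.Helper9.TCData.Sz8A0.S1
import Cfsg.Agent.Lib.Helper9.TCData.Sz8A0.S2
import Cfsg.Agent.Lib.Helper9.TCData.Sz8A0.S3
import Cfsg.Agent.Lib.Helper9.TCData.Sz8A0.S4
import Cfsg.Agent.Lib.Helper9.TCData.Sz8A0.S5
import Cfsg.Agent.Lib.Helper9.TCData.Sz8A0.S6
import Cfsg.Agent.Lib.Helper9.TCData.Sz8A0.S7
import Cfsg.Agent.Lib.Helper9.TCData.Sz8A0.S8
import Cfsg.Agent.Lib.Helper9.TCData.Sz8A0.S9
import Cfsg.Agent.Lib.Helper9.TCData.Sz8A0.S10
import Cfsg.Agent.Lib.Helper9.TCData.Sz8A0.S11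
import Cfsg.Agent.Lib.Helper9.TCData.Sz8A0.S12
import Cfsg.Agent.Lib.Helper9.TCData.Sz8A0.S13
import Cfsg.Agent.Lib.Helper9.TCData.Sz8A0.S14
import Cfsg.Agent.Lib.Helper9.TCData.Sz8A0.S15
import Cfsg.Agent.Lib.Helper9.TCData.Sz8A0.S16
import Cfsg.Agent.Lib.Helper9.TCData.Sz8A0.S17
import Cfsg.Agent.Lib.Helper9.TCData.Sz8A0.S18
import Cfsg.Agent.Lib.Helper9.TCData.Sz8A0.S19
import Cfsg.Agent.Lib.Helper9.TCData.Sz8A0.S20
import Cfsg.Agent.Lib.Helper9.TCData.Sz8A0.S21
import Cfsg.Agent.Lib.Helper9.TCData.Sz8A0.S22
import Cfsg.Agent.Lib.Helper9.TCData.Sz8A0.S23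
import Cfsg.Agent.Lib.Helper9.TCData.Sz8A0.S24
import Cfsg.Agent.Lib.Helper9.TCData.Sz8A0.S25
import Cfsg.Agent.Lib.Helper9.TCData.Sz8A0.S26
import Cfsg.Agent.Lib.Helper9.TCData.Sz8A0.S27
import Cfsg.Agent.Lib.Helper9.TCData.Sz8A0.S28
import Cfsg.Agent.Lib.Helper9.TCData.Sz8A0.S29
import Cfsg.Agent.Lib.Helper9.TCData.Sz8A0.S30

set_option autoImplicit false
set_option maxRecDepth 1000000

namespace Cfsg.Agent.Helper9.TCData.Sz8A0
open Cfsg.Agent.Helper9.TC2


theorem hE0 : ∀ u < 4160, chkE tab 0 u = true := by
  have h0 : ∀ u < 0, (fun u => chkE tab 0 u) u = true := range_zero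
  have h1 : ∀ u < 1427, (fun u => chkE tab 0 u) u = true := ext_range (a := 0) (len := 1427) h0 e0_0
  have h2 : ∀ u < 2678, (fun u => chkE tab 0 u) u = true := ext_range (a := 1427) (len := 1251) h1 e0_1
  have h3 : ∀ u < 3723, (fun u => chkE tab 0 u) u = true := ext_range (a := 2678) (len := 1045) h2 e0_2
  have h4 : ∀ u < 4160, (fun u => chkE tab 0 u) u = true := ext_range (a := 3723) (len := 437) h3 e0_3
  exact h4

theorem hE1 : ∀ u < 4160, chkE tab 1 u = true := by
  have h0 : ∀ u < 0, (fun u => chkE tab 1 u) u = true := range_zero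
  have h1 : ∀ u < 1996, (fun u => chkE tab 1 u) u = true := ext_range (a := 0) (len := 1996) h0 e1_0
  have h2 : ∀ u < 3543, (fun u => chkE tab 1 u) u = true := ext_range (a := 1996) (len := 1547) h1 e1_1
  have h3 : ∀ u < 4160, (fun u => chkE tab 1 u) u = true := ext_range (a := 3543) (len := 617) h2 e1_2
  exact h3

theorem hE2 : ∀ u < 4160, chkE tab 2 u = true := by
  have h0 : ∀ u < 0, (fun u => chkE tab 2 u) u = true := range_zero
  have h1 : ∀ u < 2342, (fun u => chkE tab 2 u) u = true := ext_range (a := 0) (len := 2342) h0 e2_0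
  have h2 : ∀ u < 3776, (fun u => chkE tab 2 u) u = true := ext_range (a := 2342) (len := 1434) h1 e2_1
  have h3 : ∀ u < 4160, (fun u => chkE tab 2 u) u = true := ext_range (a := 3776) (len := 384) h2 e2_2
  exact h3

theorem hE3 : ∀ u < 4160, chkE tab 3 u = true := by
  have h0 : ∀ u < 0, (fun u => chkE tab 3 u) u = true := range_zero
  have h1 : ∀ u < 2582, (fun u => chkE tab 3 u) u = true := ext_range (a := 0) (len := 2582) h0 e3_0
  have h2 : ∀ u < 3779, (fun u => chkE tab 3 u) u = true := ext_range (a := 2582) (len := 1197) h1 e3_1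
  have h3 : ∀ u < 4160, (fun u => chkE tab 3 u) u = true := ext_range (a := 3779) (len := 381) h2 e3_2
  exact h3

theorem hL : ∀ u < 4160, chkL tab u = true := by
  have h0 : ∀ u < 0, (fun u => chkL tab u) u = true := range_zero
  have h1 : ∀ u < 4160, (fun u => chkL tab u) u = true := ext_range (a := 0) (len := 4160) h0 l_0
  exact h1

theorem hF : ∀ u < 4160, chkFin tab u = true := by
  have h0 : ∀ u < 0, (fun u => chkFin tab u) u = true := range_zero
  have h1 : ∀ u < 572, (fun u => chkFin tab u) u = true := ext_range (a := 0) (len := 572) h0 f_0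
  have h2 : ∀ u < 1144, (fun u => chkFin tab u) u = true := ext_range (a := 572) (len := 572) h1 f_1
  have h3 : ∀ u < 1716, (fun u => chkFin tab u) u = true := ext_range (a := 1144) (len := 572) h2 f_2
  have h4 : ∀ u < 2288, (fun u => chkFin tab u) u = true := ext_range (a := 1716) (len := 572) h3 f_3
  have h5 : ∀ u < 2860, (fun u => chkFin tab u) u = true := ext_range (a := 2288) (len := 572) h4 f_4
  have h6 : ∀ u < 3432, (fun u => chkFin tab u) u = true := ext_range (a := 2860) (len := 572) h5 f_5
  have h7 : ∀ u < 4004, (fun u => chkFin tab u) u = true := ext_range (a := 3432) (len := 572) h6 f_6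
  have h8 : ∀ u < 4160, (fun u => chkFin tab u) u = true := ext_range (a := 4004) (len := 156) h7 f_7
  exact h8

theorem hC : ∀ u < 4160, chkCls tab u = true := by
  have h0 : ∀ u < 0, (fun u => chkCls tab u) u = true := range_zero
  have h1 : ∀ u < 2667, (fun u => chkCls tab u) u = true := ext_range (a := 0) (len := 2667) h0 c_0
  have h2 : ∀ u < 4160, (fun u => chkCls tab u) u = true := ext_range (a := 2667) (len := 1493) h1 c_1
  exact h2

theorem hM1 : ∀ u < 4160, chkM1 tab u = true := by
  have h0 : ∀ u < 0, (fun u => chkM1 tab u) u = true := range_zero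
  have h1 : ∀ u < 1510, (fun u => chkM1 tab u) u = true := ext_range (a := 0) (len := 1510) h0 m1_0
  have h2 : ∀ u < 3020, (fun u => chkM1 tab u) u = true := ext_range (a := 1510) (len := 1510) h1 m1_1
  have h3 : ∀ u < 4160, (fun u => chkM1 tab u) u = true := ext_range (a := 3020) (len := 1140) h2 m1_2
  exact h3

theorem hMA : ∀ u < 4160, chkAux tab aux u = true := by
  have h0 : ∀ u < 0, (fun u => chkAux tab aux u) u = true := range_zero
  have h1 : ∀ u < 728, (fun u => chkAux tab aux u) u = true := ext_range (a := 0) (len := 728) h0 ma_0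
  have h2 : ∀ u < 1456, (fun u => chkAux tab aux u) u = true := ext_range (a := 728) (len := 728) h1 ma_1
  have h3 : ∀ u < 2184, (fun u => chkAux tab aux u) u = true := ext_range (a := 1456) (len := 728) h2 ma_2
  have h4 : ∀ u < 2912, (fun u => chkAux tab aux u) u = true := ext_range (a := 2184) (len := 728) h3 ma_3
  have h5 : ∀ u < 3640, (fun u => chkAux tab aux u) u = true := ext_range (a := 2912) (len := 728) h4 ma_4
  have h6 : ∀ u < 4160, (fun u => chkAux tab aux u) u = true := ext_range (a := 3640) (len := 520) h5 ma_5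
  exact h6

theorem hM2A : ∀ u < 4160, chkFix tab mwordsA u = true := by
  have h0 : ∀ u < 0, (fun u => chkFix tab mwordsA u) u = true := range_zero
  have h1 : ∀ u < 21, (fun u => chkFix tab mwordsA u) u = true := ext_range (a := 0) (len := 21) h0 m2_0
  have h2 : ∀ u < 42, (fun u => chkFix tab mwordsA u) u = true := ext_range (a := 21) (len := 21) h1 m2_1
  have h3 : ∀ u < 63, (fun u => chkFix tab mwordsA u) u = true := ext_range (a := 42) (len := 21) h2 m2_2
  have h4 : ∀ u < 84, (fun u => chkFix tab mwordsA u) u = true := ext_range (a := 63) (len := 21) h3 m2_3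
  have h5 : ∀ u < 105, (fun u => chkFix tab mwordsA u) u = true := ext_range (a := 84) (len := 21) h4 m2_4
  have h6 : ∀ u < 126, (fun u => chkFix tab mwordsA u) u = true := ext_range (a := 105) (len := 21) h5 m2_5
  have h7 : ∀ u < 147, (fun u => chkFix tab mwordsA u) u = true := ext_range (a := 126) (len := 21) h6 m2_6
  have h8 : ∀ u < 168, (fun u => chkFix tab mwordsA u) u = true := ext_range (a := 147) (len := 21) h7 m2_7
  have h9 : ∀ u < 189, (fun u => chkFix tab mwordsA u) u = true := ext_range (a := 168) (len := 21) h8 m2_8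
  have h10 : ∀ u < 210, (fun u => chkFix tab mwordsA u) u = true := ext_range (a := 189) (len := 21) h9 m2_9
  have h11 : ∀ u < 231, (fun u => chkFix tab mwordsA u) u = true := ext_range (a := 210) (len := 21) h10 m2_10
  have h12 : ∀ u < 252, (fun u => chkFix tab mwordsA u) u = true := ext_range (a := 231) (len := 21) h11 m2_11
  have h13 : ∀ u < 273, (fun u => chkFix tab mwordsA u) u = true := ext_range (a := 252) (len := 21) h12 m2_12
  have h14 : ∀ u < 294, (fun u => chkFix tab mwordsA u) u = true := ext_range (a := 273) (len := 21) h13 m2_13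
  have h15 : ∀ u < 315, (fun u => chkFix tab mwordsA u) u = true := ext_range (a := 294) (len := 21) h14 m2_14
  have h16 : ∀ u < 336, (fun u => chkFix tab mwordsA u) u = true := ext_range (a := 315) (len := 21) h15 m2_15
  have h17 : ∀ u < 357, (fun u => chkFix tab mwordsA u) u = true := ext_range (a := 336) (len := 21) h16 m2_16
  have h18 : ∀ u < 378, (fun u => chkFix tab mwordsA u) u = true := ext_range (a := 357) (len := 21) h17 m2_17
  have h19 : ∀ u < 399, (fun u => chkFix tab mwordsA u) u = true := ext_range (a := 378) (len := 21) h18 m2_18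
  have h20 : ∀ u < 420, (fun u => chkFix tab mwordsA u) u = true := ext_range (a := 399) (len := 21) h19 m2_19
  have h21 : ∀ u < 441, (fun u => chkFix tab mwordsA u) u = true := ext_range (a := 420) (len := 21) h20 m2_20
  have h22 : ∀ u < 462, (fun u => chkFix tab mwordsA u) u = true := ext_range (a := 441) (len := 21) h21 m2_21
  have h23 : ∀ u < 483, (fun u => chkFix tab mwordsA u) u = true := ext_range (a := 462) (len := 21) h22 m2_22
  have h24 : ∀ u < 504, (fun u => chkFix tab mwordsA u) u = true := ext_range (a := 483) (len := 21) h23 m2_23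
  have h25 : ∀ u < 525, (fun u => chkFix tab mwordsA u) u = true := ext_range (a := 504) (len := 21) h24 m2_24
  have h26 : ∀ u < 546, (fun u => chkFix tab mwordsA u) u = true := ext_range (a := 525) (len := 21) h25 m2_25
  have h27 : ∀ u < 567, (fun u => chkFix tab mwordsA u) u = true := ext_range (a := 546) (len := 21) h26 m2_26
  have h28 : ∀ u < 588, (fun u => chkFix tab mwordsA u) u = true := ext_range (a := 567) (len := 21) h27 m2_27
  have h29 : ∀ u < 609, (fun u => chkFix tab mwordsA u) u = true := ext_range (a := 588) (len := 21) h28 m2_28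
  have h30 : ∀ u < 630, (fun u => chkFix tab mwordsA u) u = true := ext_range (a := 609) (len := 21) h29 m2_29
  have h31 : ∀ u < 651, (fun u => chkFix tab mwordsA u) u = true := ext_range (a := 630) (len := 21) h30 m2_30
  have h32 : ∀ u < 672, (fun u => chkFix tab mwordsA u) u = true := ext_range (a := 651) (len := 21) h31 m2_31
  have h33 : ∀ u < 693, (fun u => chkFix tab mwordsA u) u = true := ext_range (a := 672) (len := 21) h32 m2_32
  have h34 : ∀ u < 714, (fun u => chkFix tab mwordsA u) u = true := ext_range (a := 693) (len := 21) h33 m2_33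
  have h35 : ∀ u < 735, (fun u => chkFix tab mwordsA u) u = true := ext_range (a := 714) (len := 21) h34 m2_34
  have h36 : ∀ u < 756, (fun u => chkFix tab mwordsA u) u = true := ext_range (a := 735) (len := 21) h35 m2_35
  have h37 : ∀ u < 777, (fun u => chkFix tab mwordsA u) u = true := ext_range (a := 756) (len := 21) h36 m2_36
  have h38 : ∀ u < 798, (fun u => chkFix tab mwordsA u) u = true := ext_range (a := 777) (len := 21) h37 m2_37
  have h39 : ∀ u < 819, (fun u => chkFix tab mwordsA u) u = true := ext_range (a := 798) (len := 21) h38 m2_38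
  have h40 : ∀ u < 840, (fun u => chkFix tab mwordsA u) u = true := ext_range (a := 819) (len := 21) h39 m2_39
  have h41 : ∀ u < 861, (fun u => chkFix tab mwordsA u) u = true := ext_range (a := 840) (len := 21) h40 m2_40
  have h42 : ∀ u < 882, (fun u => chkFix tab mwordsA u) u = true := ext_range (a := 861) (len := 21) h41 m2_41
  have h43 : ∀ u < 903, (fun u => chkFix tab mwordsA u) u = true := ext_range (a := 882) (len := 21) h42 m2_42
  have h44 : ∀ u < 924, (fun u => chkFix tab mwordsA u) u = true := ext_range (a := 903) (len := 21) h43 m2_43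
  have h45 : ∀ u < 945, (fun u => chkFix tab mwordsA u) u = true := ext_range (a := 924) (len := 21) h44 m2_44
  have h46 : ∀ u < 966, (fun u => chkFix tab mwordsA u) u = true := ext_range (a := 945) (len := 21) h45 m2_45
  have h47 : ∀ u < 987, (fun u => chkFix tab mwordsA u) u = true := ext_range (a := 966) (len := 21) h46 m2_46
  have h48 : ∀ u < 1008, (fun u => chkFix tab mwordsA u) u = true := ext_range (a := 987) (len := 21) h47 m2_47
  have h49 : ∀ u < 1029, (fun u => chkFix tab mwordsA u) u = true := ext_range (a := 1008) (len := 21) h48 m2_48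
  have h50 : ∀ u < 1050, (fun u => chkFix tab mwordsA u) u = true := ext_range (a := 1029) (len := 21) h49 m2_49
  have h51 : ∀ u < 1071, (fun u => chkFix tab mwordsA u) u = true := ext_range (a := 1050) (len := 21) h50 m2_50
  have h52 : ∀ u < 1092, (fun u => chkFix tab mwordsA u) u = true := ext_range (a := 1071) (len := 21) h51 m2_51
  have h53 : ∀ u < 1113, (fun u => chkFix tab mwordsA u) u = true := ext_range (a := 1092) (len := 21) h52 m2_52
  have h54 : ∀ u < 1134, (fun u => chkFix tab mwordsA u) u = true := ext_range (a := 1113) (len := 21) h53 m2_53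
  have h55 : ∀ u < 1155, (fun u => chkFix tab mwordsA u) u = true := ext_range (a := 1134) (len := 21) h54 m2_54
  have h56 : ∀ u < 1176, (fun u => chkFix tab mwordsA u) u = true := ext_range (a := 1155) (len := 21) h55 m2_55
  have h57 : ∀ u < 1197, (fun u => chkFix tab mwordsA u) u = true := ext_range (a := 1176) (len := 21) h56 m2_56
  have h58 : ∀ u < 1218, (fun u => chkFix tab mwordsA u) u = true := ext_range (a := 1197) (len := 21) h57 m2_57
  have h59 : ∀ u < 1239, (fun u => chkFix tab mwordsA u) u = true := ext_range (a := 1218) (len := 21) h58 m2_58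
  have h60 : ∀ u < 1260, (fun u => chkFix tab mwordsA u) u = true := ext_range (a := 1239) (len := 21) h59 m2_59
  have h61 : ∀ u < 1281, (fun u => chkFix tab mwordsA u) u = true := ext_range (a := 1260) (len := 21) h60 m2_60
  have h62 : ∀ u < 1302, (fun u => chkFix tab mwordsA u) u = true := ext_range (a := 1281) (len := 21) h61 m2_61
  have h63 : ∀ u < 1323, (fun u => chkFix tab mwordsA u) u = true := ext_range (a := 1302) (len := 21) h62 m2_62
  have h64 : ∀ u < 1344, (fun u => chkFix tab mwordsA u) u = true := ext_range (a := 1323) (len := 21) h63 m2_63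
  have h65 : ∀ u < 1365, (fun u => chkFix tab mwordsA u) u = true := ext_range (a := 1344) (len := 21) h64 m2_64
  have h66 : ∀ u < 1386, (fun u => chkFix tab mwordsA u) u = true := ext_range (a := 1365) (len := 21) h65 m2_65
  have h67 : ∀ u < 1407, (fun u => chkFix tab mwordsA u) u = true := ext_range (a := 1386) (len := 21) h66 m2_66
  have h68 : ∀ u < 1428, (fun u => chkFix tab mwordsA u) u = true := ext_range (a := 1407) (len := 21) h67 m2_67
  have h69 : ∀ u < 1449, (fun u => chkFix tab mwordsA u) u = true := ext_range (a := 1428) (len := 21) h68 m2_68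
  have h70 : ∀ u < 1470, (fun u => chkFix tab mwordsA u) u = true := ext_range (a := 1449) (len := 21) h69 m2_69
  have h71 : ∀ u < 1491, (fun u => chkFix tab mwordsA u) u = true := ext_range (a := 1470) (len := 21) h70 m2_70
  have h72 : ∀ u < 1512, (fun u => chkFix tab mwordsA u) u = true := ext_range (a := 1491) (len := 21) h71 m2_71
  have h73 : ∀ u < 1533, (fun u => chkFix tab mwordsA u) u = true := ext_range (a := 1512) (len := 21) h72 m2_72
  have h74 : ∀ u < 1554, (fun u => chkFix tab mwordsA u) u = true := ext_range (a := 1533) (len := 21) h73 m2_73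
  have h75 : ∀ u < 1575, (fun u => chkFix tab mwordsA u) u = true := ext_range (a := 1554) (len := 21) h74 m2_74
  have h76 : ∀ u < 1596, (fun u => chkFix tab mwordsA u) u = true := ext_range (a := 1575) (len := 21) h75 m2_75
  have h77 : ∀ u < 1617, (fun u => chkFix tab mwordsA u) u = true := ext_range (a := 1596) (len := 21) h76 m2_76
  have h78 : ∀ u < 1638, (fun u => chkFix tab mwordsA u) u = true := ext_range (a := 1617) (len := 21) h77 m2_77
  have h79 : ∀ u < 1659, (fun u => chkFix tab mwordsA u) u = true := ext_range (a := 1638) (len := 21) h78 m2_78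
  have h80 : ∀ u < 1680, (fun u => chkFix tab mwordsA u) u = true := ext_range (a := 1659) (len := 21) h79 m2_79
  have h81 : ∀ u < 1701, (fun u => chkFix tab mwordsA u) u = true := ext_range (a := 1680) (len := 21) h80 m2_80
  have h82 : ∀ u < 1722, (fun u => chkFix tab mwordsA u) u = true := ext_range (a := 1701) (len := 21) h81 m2_81
  have h83 : ∀ u < 1743, (fun u => chkFix tab mwordsA u) u = true := ext_range (a := 1722) (len := 21) h82 m2_82
  have h84 : ∀ u < 1764, (fun u => chkFix tab mwordsA u) u = true := ext_range (a := 1743) (len := 21) h83 m2_83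
  have h85 : ∀ u < 1785, (fun u => chkFix tab mwordsA u) u = true := ext_range (a := 1764) (len := 21) h84 m2_84
  have h86 : ∀ u < 1806, (fun u => chkFix tab mwordsA u) u = true := ext_range (a := 1785) (len := 21) h85 m2_85
  have h87 : ∀ u < 1827, (fun u => chkFix tab mwordsA u) u = true := ext_range (a := 1806) (len := 21) h86 m2_86
  have h88 : ∀ u < 1848, (fun u => chkFix tab mwordsA u) u = true := ext_range (a := 1827) (len := 21) h87 m2_87
  have h89 : ∀ u < 1869, (fun u => chkFix tab mwordsA u) u = true := ext_range (a := 1848) (len := 21) h88 m2_88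
  have h90 : ∀ u < 1890, (fun u => chkFix tab mwordsA u) u = true := ext_range (a := 1869) (len := 21) h89 m2_89
  have h91 : ∀ u < 1911, (fun u => chkFix tab mwordsA u) u = true := ext_range (a := 1890) (len := 21) h90 m2_90
  have h92 : ∀ u < 1932, (fun u => chkFix tab mwordsA u) u = true := ext_range (a := 1911) (len := 21) h91 m2_91
  have h93 : ∀ u < 1953, (fun u => chkFix tab mwordsA u) u = true := ext_range (a := 1932) (len := 21) h92 m2_92
  have h94 : ∀ u < 1974, (fun u => chkFix tab mwordsA u) u = true := ext_range (a := 1953) (len := 21) h93 m2_93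
  have h95 : ∀ u < 1995, (fun u => chkFix tab mwordsA u) u = true := ext_range (a := 1974) (len := 21) h94 m2_94
  have h96 : ∀ u < 2016, (fun u => chkFix tab mwordsA u) u = true := ext_range (a := 1995) (len := 21) h95 m2_95
  have h97 : ∀ u < 2037, (fun u => chkFix tab mwordsA u) u = true := ext_range (a := 2016) (len := 21) h96 m2_96
  have h98 : ∀ u < 2058, (fun u => chkFix tab mwordsA u) u = true := ext_range (a := 2037) (len := 21) h97 m2_97
  have h99 : ∀ u < 2079, (fun u => chkFix tab mwordsA u) u = true := ext_range (a := 2058) (len := 21) h98 m2_98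
  have h100 : ∀ u < 2100, (fun u => chkFix tab mwordsA u) u = true := ext_range (a := 2079) (len := 21) h99 m2_99
  have h101 : ∀ u < 2121, (fun u => chkFix tab mwordsA u) u = true := ext_range (a := 2100) (len := 21) h100 m2_100
  have h102 : ∀ u < 2142, (fun u => chkFix tab mwordsA u) u = true := ext_range (a := 2121) (len := 21) h101 m2_101
  have h103 : ∀ u < 2163, (fun u => chkFix tab mwordsA u) u = true := ext_range (a := 2142) (len := 21) h102 m2_102
  have h104 : ∀ u < 2184, (fun u => chkFix tab mwordsA u) u = true := ext_range (a := 2163) (len := 21) h103 m2_103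
  have h105 : ∀ u < 2205, (fun u => chkFix tab mwordsA u) u = true := ext_range (a := 2184) (len := 21) h104 m2_104
  have h106 : ∀ u < 2226, (fun u => chkFix tab mwordsA u) u = true := ext_range (a := 2205) (len := 21) h105 m2_105
  have h107 : ∀ u < 2247, (fun u => chkFix tab mwordsA u) u = true := ext_range (a := 2226) (len := 21) h106 m2_106
  have h108 : ∀ u < 2268, (fun u => chkFix tab mwordsA u) u = true := ext_range (a := 2247) (len := 21) h107 m2_107
  have h109 : ∀ u < 2289, (fun u => chkFix tab mwordsA u) u = true := ext_range (a := 2268) (len := 21) h108 m2_108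
  have h110 : ∀ u < 2310, (fun u => chkFix tab mwordsA u) u = true := ext_range (a := 2289) (len := 21) h109 m2_109
  have h111 : ∀ u < 2331, (fun u => chkFix tab mwordsA u) u = true := ext_range (a := 2310) (len := 21) h110 m2_110
  have h112 : ∀ u < 2352, (fun u => chkFix tab mwordsA u) u = true := ext_range (a := 2331) (len := 21) h111 m2_111
  have h113 : ∀ u < 2373, (fun u => chkFix tab mwordsA u) u = true := ext_range (a := 2352) (len := 21) h112 m2_112
  have h114 : ∀ u < 2394, (fun u => chkFix tab mwordsA u) u = true := ext_range (a := 2373) (len := 21) h113 m2_113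
  have h115 : ∀ u < 2415, (fun u => chkFix tab mwordsA u) u = true := ext_range (a := 2394) (len := 21) h114 m2_114
  have h116 : ∀ u < 2436, (fun u => chkFix tab mwordsA u) u = true := ext_range (a := 2415) (len := 21) h115 m2_115
  have h117 : ∀ u < 2457, (fun u => chkFix tab mwordsA u) u = true := ext_range (a := 2436) (len := 21) h116 m2_116
  have h118 : ∀ u < 2478, (fun u => chkFix tab mwordsA u) u = true := ext_range (a := 2457) (len := 21) h117 m2_117
  have h119 : ∀ u < 2499, (fun u => chkFix tab mwordsA u) u = true := ext_range (a := 2478) (len := 21) h118 m2_118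
  have h120 : ∀ u < 2520, (fun u => chkFix tab mwordsA u) u = true := ext_range (a := 2499) (len := 21) h119 m2_119
  have h121 : ∀ u < 2541, (fun u => chkFix tab mwordsA u) u = true := ext_range (a := 2520) (len := 21) h120 m2_120
  have h122 : ∀ u < 2562, (fun u => chkFix tab mwordsA u) u = true := ext_range (a := 2541) (len := 21) h121 m2_121
  have h123 : ∀ u < 2583, (fun u => chkFix tab mwordsA u) u = true := ext_range (a := 2562) (len := 21) h122 m2_122
  have h124 : ∀ u < 2604, (fun u => chkFix tab mwordsA u) u = true := ext_range (a := 2583) (len := 21) h123 m2_123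
  have h125 : ∀ u < 2625, (fun u => chkFix tab mwordsA u) u = true := ext_range (a := 2604) (len := 21) h124 m2_124
  have h126 : ∀ u < 2646, (fun u => chkFix tab mwordsA u) u = true := ext_range (a := 2625) (len := 21) h125 m2_125
  have h127 : ∀ u < 2667, (fun u => chkFix tab mwordsA u) u = true := ext_range (a := 2646) (len := 21) h126 m2_126
  have h128 : ∀ u < 2688, (fun u => chkFix tab mwordsA u) u = true := ext_range (a := 2667) (len := 21) h127 m2_127
  have h129 : ∀ u < 2709, (fun u => chkFix tab mwordsA u) u = true := ext_range (a := 2688) (len := 21) h128 m2_128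
  have h130 : ∀ u < 2730, (fun u => chkFix tab mwordsA u) u = true := ext_range (a := 2709) (len := 21) h129 m2_129
  have h131 : ∀ u < 2751, (fun u => chkFix tab mwordsA u) u = true := ext_range (a := 2730) (len := 21) h130 m2_130
  have h132 : ∀ u < 2772, (fun u => chkFix tab mwordsA u) u = true := ext_range (a := 2751) (len := 21) h131 m2_131
  have h133 : ∀ u < 2793, (fun u => chkFix tab mwordsA u) u = true := ext_range (a := 2772) (len := 21) h132 m2_132
  have h134 : ∀ u < 2814, (fun u => chkFix tab mwordsA u) u = true := ext_range (a := 2793) (len := 21) h133 m2_133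
  have h135 : ∀ u < 2835, (fun u => chkFix tab mwordsA u) u = true := ext_range (a := 2814) (len := 21) h134 m2_134
  have h136 : ∀ u < 2856, (fun u => chkFix tab mwordsA u) u = true := ext_range (a := 2835) (len := 21) h135 m2_135
  have h137 : ∀ u < 2877, (fun u => chkFix tab mwordsA u) u = true := ext_range (a := 2856) (len := 21) h136 m2_136
  have h138 : ∀ u < 2898, (fun u => chkFix tab mwordsA u) u = true := ext_range (a := 2877) (len := 21) h137 m2_137
  have h139 : ∀ u < 2919, (fun u => chkFix tab mwordsA u) u = true := ext_range (a := 2898) (len := 21) h138 m2_138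
  have h140 : ∀ u < 2940, (fun u => chkFix tab mwordsA u) u = true := ext_range (a := 2919) (len := 21) h139 m2_139
  have h141 : ∀ u < 2961, (fun u => chkFix tab mwordsA u) u = true := ext_range (a := 2940) (len := 21) h140 m2_140
  have h142 : ∀ u < 2982, (fun u => chkFix tab mwordsA u) u = true := ext_range (a := 2961) (len := 21) h141 m2_141
  have h143 : ∀ u < 3003, (fun u => chkFix tab mwordsA u) u = true := ext_range (a := 2982) (len := 21) h142 m2_142
  have h144 : ∀ u < 3024, (fun u => chkFix tab mwordsA u) u = true := ext_range (a := 3003) (len := 21) h143 m2_143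
  have h145 : ∀ u < 3045, (fun u => chkFix tab mwordsA u) u = true := ext_range (a := 3024) (len := 21) h144 m2_144
  have h146 : ∀ u < 3066, (fun u => chkFix tab mwordsA u) u = true := ext_range (a := 3045) (len := 21) h145 m2_145
  have h147 : ∀ u < 3087, (fun u => chkFix tab mwordsA u) u = true := ext_range (a := 3066) (len := 21) h146 m2_146
  have h148 : ∀ u < 3108, (fun u => chkFix tab mwordsA u) u = true := ext_range (a := 3087) (len := 21) h147 m2_147
  have h149 : ∀ u < 3129, (fun u => chkFix tab mwordsA u) u = true := ext_range (a := 3108) (len := 21) h148 m2_148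
  have h150 : ∀ u < 3150, (fun u => chkFix tab mwordsA u) u = true := ext_range (a := 3129) (len := 21) h149 m2_149
  have h151 : ∀ u < 3171, (fun u => chkFix tab mwordsA u) u = true := ext_range (a := 3150) (len := 21) h150 m2_150
  have h152 : ∀ u < 3192, (fun u => chkFix tab mwordsA u) u = true := ext_range (a := 3171) (len := 21) h151 m2_151
  have h153 : ∀ u < 3213, (fun u => chkFix tab mwordsA u) u = true := ext_range (a := 3192) (len := 21) h152 m2_152
  have h154 : ∀ u < 3234, (fun u => chkFix tab mwordsA u) u = true := ext_range (a := 3213) (len := 21) h153 m2_153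
  have h155 : ∀ u < 3255, (fun u => chkFix tab mwordsA u) u = true := ext_range (a := 3234) (len := 21) h154 m2_154
  have h156 : ∀ u < 3276, (fun u => chkFix tab mwordsA u) u = true := ext_range (a := 3255) (len := 21) h155 m2_155
  have h157 : ∀ u < 3297, (fun u => chkFix tab mwordsA u) u = true := ext_range (a := 3276) (len := 21) h156 m2_156
  have h158 : ∀ u < 3318, (fun u => chkFix tab mwordsA u) u = true := ext_range (a := 3297) (len := 21) h157 m2_157
  have h159 : ∀ u < 3339, (fun u => chkFix tab mwordsA u) u = true := ext_range (a := 3318) (len := 21) h158 m2_158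
  have h160 : ∀ u < 3360, (fun u => chkFix tab mwordsA u) u = true := ext_range (a := 3339) (len := 21) h159 m2_159
  have h161 : ∀ u < 3381, (fun u => chkFix tab mwordsA u) u = true := ext_range (a := 3360) (len := 21) h160 m2_160
  have h162 : ∀ u < 3402, (fun u => chkFix tab mwordsA u) u = true := ext_range (a := 3381) (len := 21) h161 m2_161
  have h163 : ∀ u < 3423, (fun u => chkFix tab mwordsA u) u = true := ext_range (a := 3402) (len := 21) h162 m2_162
  have h164 : ∀ u < 3444, (fun u => chkFix tab mwordsA u) u = true := ext_range (a := 3423) (len := 21) h163 m2_163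
  have h165 : ∀ u < 3465, (fun u => chkFix tab mwordsA u) u = true := ext_range (a := 3444) (len := 21) h164 m2_164
  have h166 : ∀ u < 3486, (fun u => chkFix tab mwordsA u) u = true := ext_range (a := 3465) (len := 21) h165 m2_165
  have h167 : ∀ u < 3507, (fun u => chkFix tab mwordsA u) u = true := ext_range (a := 3486) (len := 21) h166 m2_166
  have h168 : ∀ u < 3528, (fun u => chkFix tab mwordsA u) u = true := ext_range (a := 3507) (len := 21) h167 m2_167
  have h169 : ∀ u < 3549, (fun u => chkFix tab mwordsA u) u = true := ext_range (a := 3528) (len := 21) h168 m2_168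
  have h170 : ∀ u < 3570, (fun u => chkFix tab mwordsA u) u = true := ext_range (a := 3549) (len := 21) h169 m2_169
  have h171 : ∀ u < 3591, (fun u => chkFix tab mwordsA u) u = true := ext_range (a := 3570) (len := 21) h170 m2_170
  have h172 : ∀ u < 3612, (fun u => chkFix tab mwordsA u) u = true := ext_range (a := 3591) (len := 21) h171 m2_171
  have h173 : ∀ u < 3633, (fun u => chkFix tab mwordsA u) u = true := ext_range (a := 3612) (len := 21) h172 m2_172
  have h174 : ∀ u < 3654, (fun u => chkFix tab mwordsA u) u = true := ext_range (a := 3633) (len := 21) h173 m2_173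
  have h175 : ∀ u < 3675, (fun u => chkFix tab mwordsA u) u = true := ext_range (a := 3654) (len := 21) h174 m2_174
  have h176 : ∀ u < 3696, (fun u => chkFix tab mwordsA u) u = true := ext_range (a := 3675) (len := 21) h175 m2_175
  have h177 : ∀ u < 3717, (fun u => chkFix tab mwordsA u) u = true := ext_range (a := 3696) (len := 21) h176 m2_176
  have h178 : ∀ u < 3738, (fun u => chkFix tab mwordsA u) u = true := ext_range (a := 3717) (len := 21) h177 m2_177
  have h179 : ∀ u < 3759, (fun u => chkFix tab mwordsA u) u = true := ext_range (a := 3738) (len := 21) h178 m2_178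
  have h180 : ∀ u < 3780, (fun u => chkFix tab mwordsA u) u = true := ext_range (a := 3759) (len := 21) h179 m2_179
  have h181 : ∀ u < 3801, (fun u => chkFix tab mwordsA u) u = true := ext_range (a := 3780) (len := 21) h180 m2_180
  have h182 : ∀ u < 3822, (fun u => chkFix tab mwordsA u) u = true := ext_range (a := 3801) (len := 21) h181 m2_181
  have h183 : ∀ u < 3843, (fun u => chkFix tab mwordsA u) u = true := ext_range (a := 3822) (len := 21) h182 m2_182
  have h184 : ∀ u < 3864, (fun u => chkFix tab mwordsA u) u = true := ext_range (a := 3843) (len := 21) h183 m2_183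
  have h185 : ∀ u < 3885, (fun u => chkFix tab mwordsA u) u = true := ext_range (a := 3864) (len := 21) h184 m2_184
  have h186 : ∀ u < 3906, (fun u => chkFix tab mwordsA u) u = true := ext_range (a := 3885) (len := 21) h185 m2_185
  have h187 : ∀ u < 3927, (fun u => chkFix tab mwordsA u) u = true := ext_range (a := 3906) (len := 21) h186 m2_186
  have h188 : ∀ u < 3948, (fun u => chkFix tab mwordsA u) u = true := ext_range (a := 3927) (len := 21) h187 m2_187
  have h189 : ∀ u < 3969, (fun u => chkFix tab mwordsA u) u = true := ext_range (a := 3948) (len := 21) h188 m2_188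
  have h190 : ∀ u < 3990, (fun u => chkFix tab mwordsA u) u = true := ext_range (a := 3969) (len := 21) h189 m2_189
  have h191 : ∀ u < 4011, (fun u => chkFix tab mwordsA u) u = true := ext_range (a := 3990) (len := 21) h190 m2_190
  have h192 : ∀ u < 4032, (fun u => chkFix tab mwordsA u) u = true := ext_range (a := 4011) (len := 21) h191 m2_191
  have h193 : ∀ u < 4053, (fun u => chkFix tab mwordsA u) u = true := ext_range (a := 4032) (len := 21) h192 m2_192
  have h194 : ∀ u < 4074, (fun u => chkFix tab mwordsA u) u = true := ext_range (a := 4053) (len := 21) h193 m2_193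
  have h195 : ∀ u < 4095, (fun u => chkFix tab mwordsA u) u = true := ext_range (a := 4074) (len := 21) h194 m2_194
  have h196 : ∀ u < 4116, (fun u => chkFix tab mwordsA u) u = true := ext_range (a := 4095) (len := 21) h195 m2_195
  have h197 : ∀ u < 4137, (fun u => chkFix tab mwordsA u) u = true := ext_range (a := 4116) (len := 21) h196 m2_196
  have h198 : ∀ u < 4158, (fun u => chkFix tab mwordsA u) u = true := ext_range (a := 4137) (len := 21) h197 m2_197
  have h199 : ∀ u < 4160, (fun u => chkFix tab mwordsA u) u = true := ext_range (a := 4158) (len := 2) h198 m2_198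
  exact h199

theorem hE : ∀ c < 4, ∀ u < 4160, chkE tab c u = true := by
  intro c hc
  interval_cases c
  · exact hE0
  · exact hE1
  · exact hE2
  · exact hE3

end Cfsg.Agent.Helper9.TCData.Sz8A0
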