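import Cfsg.Agent.Lib.Helper9.TC2Cox
import Cfsg.Agent.Lib.Helper9.TC2Aux
import Cfsg.Agent.Lib.Helper9.TC2BSGS
import Cfsg.Agent.Lib.Helper9.TC2Pack
import Cfsg.Agent.Lib.Helper9.TCData.Sz8A0.P0

set_option autoImplicit false
set_option maxRecDepth 100000

namespace Cfsg.Agent.Helper9.TCData.Sz8A0
open Cfsg.Agent.Helper9.TC2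
/-- The rotated relators. -/
noncomputable def rotT : WT := (WT.node 77 (WT.node 38 (WT.node 19 (WT.node 9 (WT.node 4 (WT.node 2 (WT.node 1 (WT.leaf [0, 0, 0, 0, 0]) (WT.leaf [0, 3, 0, 2, 1, 1, 2, 1, 1, 0, 3, 0])) (WT.node 3 (WT.leaf [0, 3, 0, 3, 1, 2, 1, 2, 1, 2, 1, 2, 0, 3, 0, 3]) (WT.leaf [0, 0, 3, 0, 0, 3]))) (WT.node 6 (WT.node 5 (WT.leaf [0, 2, 1, 1, 2, 1, 1, 0, 3, 0, 0, 3]) (WT.leaf [0, 3, 1, 2, 1, 2, 1, 2, 1, 2, 0, 3, 0, 3, 0, 3])) (WT.node 7 (WT.leaf [0, 2, 1, 2, 1, 1, 2, 1, 3, 0, 3, 0, 0, 3]) (WT.node 8 (WT.leaf [0, 0, 3, 0, 2, 1, 1, 2, 1, 1, 0, 3]) (WT.leaf [0, 3, 0, 0, 3, 0]))))) (WT.node 14 (WT.node 11 (WT.node 10 (WT.leaf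 [0, 0, 3, 0, 3, 0, 2, 2, 0, 0, 3, 0, 3, 0, 2, 2, 0, 0, 3, 0, 3, 0, 2, 2, 0, 3, 3, 1, 2, 1, 2, 1, 1, 3, 3, 1, 2, 1, 2, 1, 1, 3, 3, 1, 2, 1, 2, 1, 1, 3, 3, 1, 2, 1, 2, 1, 1, 3, 3, 1, 2, 1, 2, 1, 1, 1, 0, 0, 3, 0, 3, 0, 2, 2, 0, 0, 3, 0, 3, 0, 2, 2]) (WT.leaf [0, 0, 3, 0, 2, 1, 2, 1, 1, 2, 1, 3, 0, 3])) (WT.node 12 (WT.leaf [0, 0, 3, 0, 3, 0, 2, 2, 0, 0, 3, 0, 3, 0, 2, 2, 0, 0, 3, 0, 3, 0, 2, 2, 0, 0, 3, 0, 3, 0, 2, 2, 0, 0, 3, 0, 3, 0, 2, 2]) (WT.node 13 (WT.leaf [0, 2, 2, 0, 0, 3, 0, 3, 0, 2, 2, 0, 0, 3, 0, 3, 0, 2, 2, 0, 0, 3, 0, 3, 0, 2, 2, 0, 0, 3, 0, 3, 0, 2, 1, 2, 1, 2, 1, 1, 3, 3, 1, 2, 1, 2, 1, 1, 3, 3, 1, 2, 1, 2, 1, 1, 3,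 3, 1, 2, 1, 2, 1, 1, 3, 3, 1, 2, 1, 2, 1, 1, 3, 0, 0, 3, 0, 3]) (WT.leaf [0, 3, 0, 3, 0, 2, 2, 0, 0, 3, 0, 3, 0, 2, 2, 0, 0, 3, 0, 3, 0, 2, 2, 0, 0, 3, 0, 3, 0, 2, 1, 2, 1, 2, 1, 1, 3, 3, 1, 2, 1, 2, 1, 1, 3, 3, 1, 2, 1, 2, 1, 1, 3, 3, 1, 2, 1, 2, 1, 1, 3, 3, 1, 2, 1, 2, 1, 1, 3, 0, 0, 3, 0, 3, 0, 2, 2, 0])))) (WT.node 16 (WT.node 15 (WT.leaf [0, 0, 3, 0, 3, 0, 2, 2, 0, 0, 3, 0, 3, 0, 2, 2, 0, 0, 3, 0, 3, 0, 2, 2, 0, 0, 3, 0, 3, 0, 2, 2, 0, 3, 3, 1, 2, 1, 2, 1, 1, 3, 3, 1, 2, 1, 2, 1, 1, 3, 3, 1, 2, 1, 2, 1, 1, 3, 3, 1, 2, 1, 2, 1, 1, 3, 3, 1, 2, 1, 2, 1, 1, 1, 0, 0, 3, 0, 3, 0, 2, 2]) (WT.leaf [0, 2, 2, 0, 3, 3, 1, 2, 1, 2, 1, 1,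 3, 3, 1, 2, 1, 2, 1, 1, 3, 3, 1, 2, 1, 2, 1, 1, 3, 3, 1, 2, 1, 2, 1, 1, 3, 3, 1, 2, 1, 2, 1, 1, 1, 0, 0, 3, 0, 3, 0, 2, 2, 0, 0, 3, 0, 3, 0, 2, 2, 0, 0, 3, 0, 3, 0, 2, 2, 0, 0, 3, 0, 3, 0, 2, 2, 0, 0, 3, 0, 3])) (WT.node 17 (WT.leaf [0, 3, 0, 3, 0, 0, 2, 0, 3, 0, 3, 0, 0, 2, 0, 3, 0, 3, 0, 0, 2, 0, 3, 0, 3, 0, 0, 2, 0, 3, 0, 3, 0, 0, 2, 0, 3, 0, 3, 0, 0, 2, 0, 3, 0, 3, 0, 0, 2]) (WT.node 18 (WT.leaf [0, 0, 3, 0, 3, 0, 2, 2, 0, 0, 3, 0, 3, 0, 2, 1, 2, 1, 2, 1, 1, 3, 3, 1, 2, 1, 2, 1, 1, 3, 3, 1, 2, 1, 2, 1, 1, 3, 3, 1, 2, 1, 2, 1, 1, 3, 3, 1, 2, 1, 2, 1, 1, 3, 0, 0, 3, 0, 3, 0, 2, 2, 0, 0, 3, 0, 3, 0, 2, 2, 0, 0, 3, 0, 3, 0, 2, 2])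 (WT.leaf [0, 0, 3, 0, 3, 0, 2, 2, 0, 0, 3, 0, 3, 0, 2, 2, 0, 0, 3, 0, 3, 0, 2, 1, 2, 1, 2, 1, 1, 3, 3, 1, 2, 1, 2, 1, 1, 3, 3, 1, 2, 1, 2, 1, 1, 3, 3, 1, 2, 1, 2, 1, 1, 3, 3, 1, 2, 1, 2, 1, 1, 3, 0, 0, 3, 0, 3, 0, 2, 2, 0, 0, 3, 0, 3, 0, 2, 2])))))) (WT.node 28 (WT.node 23 (WT.node 21 (WT.node 20 (WT.leaf [0, 3, 0, 0, 2, 0, 3, 0, 3, 0, 0, 2, 0, 3, 0, 3, 0, 0, 2, 0, 3, 0, 3, 0, 2, 1, 2, 1, 3, 1, 1, 2, 1, 2, 1, 3, 1, 1, 2, 1, 2, 1, 3, 1, 1, 2, 1, 2, 1, 3, 1, 1, 2, 1, 2, 1, 3, 1, 1, 2, 1, 2, 1, 3, 1, 1, 2, 1, 2, 1, 3, 1, 1, 0, 2, 0, 3, 0, 3, 0, 0, 2, 0, 3, 0, 3, 0, 0, 2, 0, 3, 0, 3, 0, 0, 2, 0, 3]) (WT.leaf [0, 3, 0, 0, 3, 0, 2, 1,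 2, 1, 1, 2, 1, 3])) (WT.node 22 (WT.leaf [0, 3, 0, 2, 1, 2, 1, 1, 2, 1, 3, 0, 3, 0]) (WT.leaf [0, 0, 2, 0, 3, 0, 3, 0, 0, 2, 0, 3, 0, 3, 0, 0, 2, 0, 3, 0, 3, 0, 0, 2, 0, 3, 0, 3, 0, 0, 2, 0, 3, 0, 3, 0, 0, 2, 0, 3, 0, 3, 0, 0, 2, 0, 3, 0, 3]))) (WT.node 25 (WT.node 24 (WT.leaf [0, 2, 2, 0, 0, 3, 0, 3, 0, 2, 2, 0, 0, 3, 0, 3, 0, 2, 2, 0, 0, 3, 0, 3, 0, 2, 1, 2, 1, 2, 1, 1, 3, 3, 1, 2, 1, 2, 1, 1, 3, 3, 1, 2, 1, 2, 1, 1, 3, 3, 1, 2, 1, 2, 1, 1, 3, 3, 1, 2, 1, 2, 1, 1, 3, 0, 0, 3, 0, 3, 0, 2, 2, 0, 0, 3, 0, 3]) (WT.leaf [0, 3, 0, 3, 0, 0, 2, 0, 3, 0, 3, 0, 0, 2, 0, 3, 0, 3, 0, 0, 2, 0, 3, 0, 3, 0, 0, 2, 0, 3, 0, 3, 0, 2, 1, 2, 1, 3,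 1, 1, 2, 1, 2, 1, 3, 1, 1, 2, 1, 2, 1, 3, 1, 1, 2, 1, 2, 1, 3, 1, 1, 2, 1, 2, 1, 3, 1, 1, 2, 1, 2, 1, 3, 1, 1, 2, 1, 2, 1, 3, 1, 1, 0, 2, 0, 3, 0, 3, 0, 0, 2, 0, 3, 0, 3, 0, 0, 2])) (WT.node 26 (WT.leaf [0, 3, 0, 3, 0, 2, 2, 0, 0, 3, 0, 3, 0, 2, 2, 0, 0, 3, 0, 3, 0, 2, 2, 0, 3, 3, 1, 2, 1, 2, 1, 1, 3, 3, 1, 2, 1, 2, 1, 1, 3, 3, 1, 2, 1, 2, 1, 1, 3, 3, 1, 2, 1, 2, 1, 1, 3, 3, 1, 2, 1, 2, 1, 1, 1, 0, 0, 3, 0, 3, 0, 2, 2, 0, 0, 3, 0, 3, 0, 2, 2, 0]) (WT.node 27 (WT.leaf [0, 3, 0, 2, 2, 0, 0, 3, 0, 3, 0, 2, 2, 0, 0, 3, 0, 3, 0, 2, 2, 0, 0, 3, 0, 3, 0, 2, 2, 0, 0, 3, 0, 3, 0, 2, 2, 0, 3, 3, 1, 2, 1, 2, 1, 1, 3, 3, 1, 2, 1, 2, 1, 1, 3,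 3, 1, 2, 1, 2, 1, 1, 3, 3, 1, 2, 1, 2, 1, 1, 3, 3, 1, 2, 1, 2, 1, 1, 1, 0, 0, 3]) (WT.leaf [0, 2, 0, 3, 0, 3, 0, 0, 2, 0, 3, 0, 3, 0, 0, 2, 0, 3, 0, 3, 0, 0, 2, 0, 3, 0, 3, 0, 0, 2, 0, 3, 0, 3, 0, 0, 2, 0, 3, 0, 3, 0, 2, 1, 2, 1, 3, 1, 1, 2, 1, 2, 1, 3, 1, 1, 2, 1, 2, 1, 3, 1, 1, 2, 1, 2, 1, 3, 1, 1, 2, 1, 2, 1, 3, 1, 1, 2, 1, 2, 1, 3, 1, 1, 2, 1, 2, 1, 3, 1, 1, 0, 2, 0, 3, 0, 3, 0]))))) (WT.node 33 (WT.node 30 (WT.node 29 (WT.leaf [0, 0, 3, 0, 3, 0, 2, 2, 0, 0, 3, 0, 3, 0, 2, 2, 0, 0, 3, 0, 3, 0, 2, 2, 0, 0, 3, 0, 3, 0, 2, 1, 2, 1, 2, 1, 1, 3, 3, 1, 2, 1, 2, 1, 1, 3, 3, 1, 2, 1, 2, 1, 1, 3, 3, 1, 2, 1, 2, 1, 1, 3, 3, 1, 2, 1, 2,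 1, 1, 3, 0, 0, 3, 0, 3, 0, 2, 2]) (WT.leaf [0, 3, 0, 3, 0, 0, 2, 0, 3, 0, 3, 0, 0, 2, 0, 3, 0, 3, 0, 0, 2, 0, 3, 0, 3, 0, 2, 1, 2, 1, 3, 1, 1, 2, 1, 2, 1, 3, 1, 1, 2, 1, 2, 1, 3, 1, 1, 2, 1, 2, 1, 3, 1, 1, 2, 1, 2, 1, 3, 1, 1, 2, 1, 2, 1, 3, 1, 1, 2, 1, 2, 1, 3, 1, 1, 0, 2, 0, 3, 0, 3, 0, 0, 2, 0, 3, 0, 3, 0, 0, 2, 0, 3, 0, 3, 0, 0, 2])) (WT.node 31 (WT.leaf [0, 0, 3, 0, 3, 0, 2, 2, 0, 0, 3, 0, 3, 0, 2, 2, 0, 3, 3, 1, 2, 1, 2, 1, 1, 3, 3, 1, 2, 1, 2, 1, 1, 3, 3, 1, 2, 1, 2, 1, 1, 3, 3, 1, 2, 1, 2, 1, 1, 3, 3, 1, 2, 1, 2, 1, 1, 1, 0, 0, 3, 0, 3, 0, 2, 2, 0, 0, 3, 0, 3, 0, 2, 2, 0, 0, 3, 0, 3, 0, 2, 2]) (WT.node 32 (WT.leaf [0, 3,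 0, 3, 0, 0, 2, 0, 3, 0, 3, 0, 0, 2, 0, 3, 0, 3, 0, 0, 2, 0, 3, 0, 3, 0, 0, 2, 0, 3, 0, 3, 0, 0, 2, 0, 3, 0, 3, 0, 0, 2, 0, 3, 0, 3, 0, 2, 1, 2, 1, 3, 1, 1, 2, 1, 2, 1, 3, 1, 1, 2, 1, 2, 1, 3, 1, 1, 2, 1, 2, 1, 3, 1, 1, 2, 1, 2, 1, 3, 1, 1, 2, 1, 2, 1, 3, 1, 1, 2, 1, 2, 1, 3, 1, 1, 0, 2]) (WT.leaf [0, 2, 2, 0, 0, 3, 0, 3, 0, 2, 2, 0, 0, 3, 0, 3, 0, 2, 2, 0, 3, 3, 1, 2, 1, 2, 1, 1, 3, 3, 1, 2, 1, 2, 1, 1, 3, 3, 1, 2, 1, 2, 1, 1, 3, 3, 1, 2, 1, 2, 1, 1, 3, 3, 1, 2, 1, 2, 1, 1, 1, 0, 0, 3, 0, 3, 0, 2, 2, 0, 0, 3, 0, 3, 0, 2, 2, 0, 0, 3, 0, 3])))) (WT.node 35 (WT.node 34 (WT.leaf [0, 2, 2, 0, 0, 3, 0, 3, 0, 2, 2, 0, 3, 3, 1, 2, 1, 2,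 1, 1, 3, 3, 1, 2, 1, 2, 1, 1, 3, 3, 1, 2, 1, 2, 1, 1, 3, 3, 1, 2, 1, 2, 1, 1, 3, 3, 1, 2, 1, 2, 1, 1, 1, 0, 0, 3, 0, 3, 0, 2, 2, 0, 0, 3, 0, 3, 0, 2, 2, 0, 0, 3, 0, 3, 0, 2, 2, 0, 0, 3, 0, 3]) (WT.leaf [0, 3, 0, 3, 0, 0, 2, 0, 3, 0, 3, 0, 0, 2, 0, 3, 0, 3, 0, 0, 2, 0, 3, 0, 3, 0, 0, 2, 0, 3, 0, 3, 0, 0, 2, 0, 3, 0, 3, 0, 2, 1, 2, 1, 3, 1, 1, 2, 1, 2, 1, 3, 1, 1, 2, 1, 2, 1, 3, 1, 1, 2, 1, 2, 1, 3, 1, 1, 2, 1, 2, 1, 3, 1, 1, 2, 1, 2, 1, 3, 1, 1, 2, 1, 2, 1, 3, 1, 1, 0, 2, 0, 3, 0, 3, 0, 0, 2])) (WT.node 36 (WT.leaf [0, 2, 0, 3, 0, 3, 0, 0, 2, 0, 3, 0, 3, 0, 0, 2, 0, 3, 0, 3, 0, 0, 2, 0, 3, 0, 3, 0, 0, 2, 0, 3, 0, 3, 0, 2, 1, 2, 1,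 3, 1, 1, 2, 1, 2, 1, 3, 1, 1, 2, 1, 2, 1, 3, 1, 1, 2, 1, 2, 1, 3, 1, 1, 2, 1, 2, 1, 3, 1, 1, 2, 1, 2, 1, 3, 1, 1, 2, 1, 2, 1, 3, 1, 1, 0, 2, 0, 3, 0, 3, 0, 0, 2, 0, 3, 0, 3, 0]) (WT.node 37 (WT.leaf [0, 3, 0, 3, 0, 2, 2, 0, 0, 3, 0, 3, 0, 2, 2, 0, 0, 3, 0, 3, 0, 2, 2, 0, 0, 3, 0, 3, 0, 2, 2, 0, 3, 3, 1, 2, 1, 2, 1, 1, 3, 3, 1, 2, 1, 2, 1, 1, 3, 3, 1, 2, 1, 2, 1, 1, 3, 3, 1, 2, 1, 2, 1, 1, 3, 3, 1, 2, 1, 2, 1, 1, 1, 0, 0, 3, 0, 3, 0, 2, 2, 0]) (WT.leaf [0, 3, 0, 3, 0, 0, 2, 0, 3, 0, 3, 0, 0, 2, 0, 3, 0, 3, 0, 2, 1, 2, 1, 3, 1, 1, 2, 1, 2, 1, 3, 1, 1, 2, 1, 2, 1, 3, 1, 1, 2, 1, 2, 1, 3, 1, 1, 2, 1, 2, 1, 3, 1, 1, 2, 1, 2, 1, 3, 1,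 1, 2, 1, 2, 1, 3, 1, 1, 0, 2, 0, 3, 0, 3, 0, 0, 2, 0, 3, 0, 3, 0, 0, 2, 0, 3, 0, 3, 0, 0, 2, 0, 3, 0, 3, 0, 0, 2]))))))) (WT.node 57 (WT.node 47 (WT.node 42 (WT.node 40 (WT.node 39 (WT.leaf [0, 2, 2, 0, 0, 3, 0, 3, 0, 2, 2, 0, 0, 3, 0, 3, 0, 2, 2, 0, 0, 3, 0, 3, 0, 2, 2, 0, 3, 3, 1, 2, 1, 2, 1, 1, 3, 3, 1, 2, 1, 2, 1, 1, 3, 3, 1, 2, 1, 2, 1, 1, 3, 3, 1, 2, 1, 2, 1, 1, 3, 3, 1, 2, 1, 2, 1, 1, 1, 0, 0, 3, 0, 3, 0, 2, 2, 0, 0, 3, 0, 3]) (WT.leaf [0, 3, 0, 3, 0, 0, 2, 0, 3, 0, 3, 0, 2, 1, 2, 1, 3, 1, 1, 2, 1, 2, 1, 3, 1, 1, 2, 1, 2, 1, 3, 1, 1, 2, 1, 2, 1, 3, 1, 1, 2, 1, 2, 1, 3, 1, 1, 2, 1, 2, 1, 3, 1, 1, 2, 1, 2, 1, 3, 1, 1, 0, 2,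 0, 3, 0, 3, 0, 0, 2, 0, 3, 0, 3, 0, 0, 2, 0, 3, 0, 3, 0, 0, 2, 0, 3, 0, 3, 0, 0, 2, 0, 3, 0, 3, 0, 0, 2])) (WT.node 41 (WT.leaf [0, 2, 1, 2, 1, 2, 1, 3, 1, 1, 2, 1, 2, 1, 3, 1, 1, 2, 1, 2, 1, 3, 1, 1, 2, 1, 2, 1, 3, 1, 1, 2, 1, 2, 1, 3, 1, 1, 2, 1, 2, 1, 3, 1, 1, 2, 1, 2, 1, 3, 1, 3, 0, 2, 0, 3, 0, 3, 0, 0, 2, 0, 3, 0, 3, 0, 0, 2, 0, 3, 0, 3, 0, 0, 2, 0, 3, 0, 3, 0, 0, 2, 0, 3, 0, 3, 0, 0, 2, 0, 3, 0, 3, 0, 0, 2, 0, 3, 0, 3]) (WT.leaf [0, 3, 0, 0, 2, 0, 3, 0, 3, 0, 0, 2, 0, 3, 0, 3, 0, 0, 2, 0, 3, 0, 3, 0, 0, 2, 0, 3, 0, 3, 0, 0, 2, 0, 3, 0, 3, 0, 0, 2, 0, 3, 0, 3, 0, 2, 1, 2, 1, 3, 1, 1, 2, 1, 2, 1, 3, 1, 1, 2, 1, 2, 1, 3, 1, 1,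 2, 1, 2, 1, 3, 1, 1, 2, 1, 2, 1, 3, 1, 1, 2, 1, 2, 1, 3, 1, 1, 2, 1, 2, 1, 3, 1, 1, 0, 2, 0, 3]))) (WT.node 44 (WT.node 43 (WT.leaf [0, 3, 0, 3, 0, 2, 1, 2, 1, 2, 1, 3, 1, 1, 2, 1, 2, 1, 3, 1, 1, 2, 1, 2, 1, 3, 1, 1, 2, 1, 2, 1, 3, 1, 1, 2, 1, 2, 1, 3, 1, 1, 2, 1, 2, 1, 3, 1, 1, 2, 1, 2, 1, 3, 1, 3, 0, 2, 0, 3, 0, 3, 0, 0, 2, 0, 3, 0, 3, 0, 0, 2, 0, 3, 0, 3, 0, 0, 2, 0, 3, 0, 3, 0, 0, 2, 0, 3, 0, 3, 0, 0, 2, 0, 3, 0, 3, 0, 0, 2]) (WT.leaf [1, 2, 1, 1, 0, 3, 0, 0, 3, 0, 2, 1])) (WT.node 45 (WT.leaf [1, 3, 0, 3, 0, 0, 3, 0, 2, 1, 2, 1, 1, 2]) (WT.node 46 (WT.leaf [1, 1, 0, 3, 0, 0, 3, 0, 2, 1, 1, 2]) (WT.leaf [1, 2, 1, 2, 0, 3, 0,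 3, 0, 3, 0, 3, 1, 2, 1, 2]))))) (WT.node 52 (WT.node 49 (WT.node 48 (WT.leaf [1, 1, 2, 1, 1, 0, 3, 0, 0, 3, 0, 2]) (WT.leaf [1, 2, 0, 3, 0, 3, 0, 3, 0, 3, 1, 2, 1, 2, 1, 2])) (WT.node 50 (WT.leaf [1, 3, 3, 1, 2, 1, 2, 1, 1, 3, 3, 1, 2, 1, 2, 1, 1, 3, 3, 1, 2, 1, 2, 1, 1, 3, 3, 1, 2, 1, 2, 1, 1, 1, 0, 0, 3, 0, 3, 0, 2, 2, 0, 0, 3, 0, 3, 0, 2, 2, 0, 0, 3, 0, 3, 0, 2, 2, 0, 0, 3, 0, 3, 0, 2, 2, 0, 0, 3, 0, 3, 0, 2, 2, 0, 3, 3, 1, 2, 1, 2, 1]) (WT.node 51 (WT.leaf [1, 2, 1, 2, 1, 1, 3, 3, 1, 2, 1, 2, 1, 1, 3, 3, 1, 2, 1, 2, 1, 1, 3, 3, 1, 2, 1, 2, 1, 1, 1, 0, 0, 3, 0, 3, 0, 2, 2, 0, 0, 3, 0, 3, 0, 2, 2, 0, 0, 3, 0, 3, 0, 2, 2, 0, 0,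 3, 0, 3, 0, 2, 2, 0, 0, 3, 0, 3, 0, 2, 2, 0, 3, 3, 1, 2, 1, 2, 1, 1, 3, 3]) (WT.leaf [1, 1, 2, 1, 2, 1, 3, 1, 3, 0, 2, 0, 3, 0, 3, 0, 0, 2, 0, 3, 0, 3, 0, 0, 2, 0, 3, 0, 3, 0, 0, 2, 0, 3, 0, 3, 0, 0, 2, 0, 3, 0, 3, 0, 0, 2, 0, 3, 0, 3, 0, 0, 2, 0, 3, 0, 3, 0, 2, 1, 2, 1, 2, 1, 3, 1, 1, 2, 1, 2, 1, 3, 1, 1, 2, 1, 2, 1, 3, 1, 1, 2, 1, 2, 1, 3, 1, 1, 2, 1, 2, 1, 3, 1, 1, 2, 1, 2, 1, 3])))) (WT.node 54 (WT.node 53 (WT.leaf [1, 2, 1, 3, 0, 3, 0, 0, 3, 0, 2, 1, 2, 1]) (WT.leaf [1, 3, 0, 0, 3, 0, 3, 0, 2, 2, 0, 0, 3, 0, 3, 0, 2, 2, 0, 0, 3, 0, 3, 0, 2, 2, 0, 0, 3, 0, 3, 0, 2, 2, 0, 0, 3, 0, 3, 0, 2, 1, 2, 1, 2, 1, 1, 3, 3, 1, 2, 1, 2, 1,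 1, 3, 3, 1, 2, 1, 2, 1, 1, 3, 3, 1, 2, 1, 2, 1, 1, 3, 3, 1, 2, 1, 2, 1])) (WT.node 55 (WT.leaf [1, 2, 1, 1, 2, 1, 3, 0, 3, 0, 0, 3, 0, 2]) (WT.node 56 (WT.leaf [1, 2, 1, 2, 1, 2, 1, 2, 0, 3, 0, 3, 0, 3, 0, 3]) (WT.leaf [1, 3, 3, 1, 2, 1, 2, 1, 1, 1, 0, 0, 3, 0, 3, 0, 2, 2, 0, 0, 3, 0, 3, 0, 2, 2, 0, 0, 3, 0, 3, 0, 2, 2, 0, 0, 3, 0, 3, 0, 2, 2, 0, 0, 3, 0, 3, 0, 2, 2, 0, 3, 3, 1, 2, 1, 2, 1, 1, 3, 3, 1, 2, 1, 2, 1, 1, 3, 3, 1, 2, 1, 2, 1, 1, 3, 3, 1, 2, 1, 2, 1])))))) (WT.node 67 (WT.node 62 (WT.node 59 (WT.node 58 (WT.leaf [1, 1, 2, 1, 3, 0, 3, 0, 0, 3, 0, 2, 1, 2]) (WT.leaf [1, 2, 1, 2, 1, 1, 1, 0, 0, 3, 0, 3, 0, 2, 2, 0, 0, 3,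 0, 3, 0, 2, 2, 0, 0, 3, 0, 3, 0, 2, 2, 0, 0, 3, 0, 3, 0, 2, 2, 0, 0, 3, 0, 3, 0, 2, 2, 0, 3, 3, 1, 2, 1, 2, 1, 1, 3, 3, 1, 2, 1, 2, 1, 1, 3, 3, 1, 2, 1, 2, 1, 1, 3, 3, 1, 2, 1, 2, 1, 1, 3, 3])) (WT.node 60 (WT.leaf [1, 3, 1, 1, 2, 1, 2, 1, 3, 1, 1, 2, 1, 2, 1, 3, 1, 1, 2, 1, 2, 1, 3, 1, 1, 2, 1, 2, 1, 3, 1, 3, 0, 2, 0, 3, 0, 3, 0, 0, 2, 0, 3, 0, 3, 0, 0, 2, 0, 3, 0, 3, 0, 0, 2, 0, 3, 0, 3, 0, 0, 2, 0, 3, 0, 3, 0, 0, 2, 0, 3, 0, 3, 0, 0, 2, 0, 3, 0, 3, 0, 2, 1, 2, 1, 2, 1, 3, 1, 1, 2, 1, 2, 1, 3, 1, 1, 2, 1, 2]) (WT.node 61 (WT.leaf [1, 2, 1, 2, 1, 3, 1, 1, 2, 1, 2, 1, 3, 1, 1, 2, 1, 2, 1, 3, 1, 1, 0, 2, 0, 3, 0, 3, 0, 0, 2, 0, 3,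 0, 3, 0, 0, 2, 0, 3, 0, 3, 0, 0, 2, 0, 3, 0, 3, 0, 0, 2, 0, 3, 0, 3, 0, 0, 2, 0, 3, 0, 3, 0, 0, 2, 0, 3, 0, 3, 0, 2, 1, 2, 1, 3, 1, 1, 2, 1, 2, 1, 3, 1, 1, 2, 1, 2, 1, 3, 1, 1, 2, 1, 2, 1, 3, 1]) (WT.leaf [1, 1, 2, 1, 2, 1, 3, 1, 1, 0, 2, 0, 3, 0, 3, 0, 0, 2, 0, 3, 0, 3, 0, 0, 2, 0, 3, 0, 3, 0, 0, 2, 0, 3, 0, 3, 0, 0, 2, 0, 3, 0, 3, 0, 0, 2, 0, 3, 0, 3, 0, 0, 2, 0, 3, 0, 3, 0, 2, 1, 2, 1, 3, 1, 1, 2, 1, 2, 1, 3, 1, 1, 2, 1, 2, 1, 3, 1, 1, 2, 1, 2, 1, 3, 1, 1, 2, 1, 2, 1, 3, 1, 1, 2, 1, 2, 1, 3])))) (WT.node 64 (WT.node 63 (WT.leaf [1, 2, 1, 2, 1, 1, 3, 3, 1, 2, 1, 2, 1, 1, 1, 0, 0, 3, 0, 3, 0, 2, 2, 0, 0, 3, 0, 3, 0, 2, 2, 0, 0,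 3, 0, 3, 0, 2, 2, 0, 0, 3, 0, 3, 0, 2, 2, 0, 0, 3, 0, 3, 0, 2, 2, 0, 3, 3, 1, 2, 1, 2, 1, 1, 3, 3, 1, 2, 1, 2, 1, 1, 3, 3, 1, 2, 1, 2, 1, 1, 3, 3]) (WT.leaf [1, 3, 3, 1, 2, 1, 2, 1, 1, 3, 3, 1, 2, 1, 2, 1, 1, 3, 0, 0, 3, 0, 3, 0, 2, 2, 0, 0, 3, 0, 3, 0, 2, 2, 0, 0, 3, 0, 3, 0, 2, 2, 0, 0, 3, 0, 3, 0, 2, 2, 0, 0, 3, 0, 3, 0, 2, 1, 2, 1, 2, 1, 1, 3, 3, 1, 2, 1, 2, 1, 1, 3, 3, 1, 2, 1, 2, 1])) (WT.node 65 (WT.leaf [1, 2, 1, 2, 1, 1, 3, 3, 1, 2, 1, 2, 1, 1, 3, 3, 1, 2, 1, 2, 1, 1, 3, 3, 1, 2, 1, 2, 1, 1, 3, 3, 1, 2, 1, 2, 1, 1, 1, 0, 0, 3, 0, 3, 0, 2, 2, 0, 0, 3, 0, 3, 0, 2, 2, 0, 0, 3, 0, 3, 0, 2, 2, 0, 0, 3, 0, 3, 0, 2, 2, 0, 0, 3,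 0, 3, 0, 2, 2, 0, 3, 3]) (WT.node 66 (WT.leaf [1, 1, 2, 1, 2, 1, 3, 1, 1, 2, 1, 2, 1, 3, 1, 1, 2, 1, 2, 1, 3, 1, 1, 2, 1, 2, 1, 3, 1, 1, 0, 2, 0, 3, 0, 3, 0, 0, 2, 0, 3, 0, 3, 0, 0, 2, 0, 3, 0, 3, 0, 0, 2, 0, 3, 0, 3, 0, 0, 2, 0, 3, 0, 3, 0, 0, 2, 0, 3, 0, 3, 0, 0, 2, 0, 3, 0, 3, 0, 2, 1, 2, 1, 3, 1, 1, 2, 1, 2, 1, 3, 1, 1, 2, 1, 2, 1, 3]) (WT.leaf [1, 2, 1, 2, 1, 3, 1, 1, 2, 1, 2, 1, 3, 1, 1, 2, 1, 2, 1, 3, 1, 1, 2, 1, 2, 1, 3, 1, 1, 2, 1, 2, 1, 3, 1, 1, 2, 1, 2, 1, 3, 1, 1, 0, 2, 0, 3, 0, 3, 0, 0, 2, 0, 3, 0, 3, 0, 0, 2, 0, 3, 0, 3, 0, 0, 2, 0, 3, 0, 3, 0, 0, 2, 0, 3, 0, 3, 0, 0, 2, 0, 3, 0, 3, 0, 0, 2, 0, 3, 0, 3, 0, 2, 1, 2,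 1, 3, 1]))))) (WT.node 72 (WT.node 69 (WT.node 68 (WT.leaf [1, 3, 3, 1, 2, 1, 2, 1, 1, 3, 3, 1, 2, 1, 2, 1, 1, 3, 3, 1, 2, 1, 2, 1, 1, 1, 0, 0, 3, 0, 3, 0, 2, 2, 0, 0, 3, 0, 3, 0, 2, 2, 0, 0, 3, 0, 3, 0, 2, 2, 0, 0, 3, 0, 3, 0, 2, 2, 0, 0, 3, 0, 3, 0, 2, 2, 0, 3, 3, 1, 2, 1, 2, 1, 1, 3, 3, 1, 2, 1, 2, 1]) (WT.leaf [1, 1, 2, 1, 2, 1, 3, 1, 1, 2, 1, 2, 1, 3, 1, 1, 2, 1, 2, 1, 3, 1, 1, 2, 1, 2, 1, 3, 1, 1, 2, 1, 2, 1, 3, 1, 1, 2, 1, 2, 1, 3, 1, 1, 0, 2, 0, 3, 0, 3, 0, 0, 2, 0, 3, 0, 3, 0, 0, 2, 0, 3, 0, 3, 0, 0, 2, 0, 3, 0, 3, 0, 0, 2, 0, 3, 0, 3, 0, 0, 2, 0, 3, 0, 3, 0, 0, 2, 0, 3, 0, 3, 0, 2, 1, 2, 1, 3])) (WT.node 70 (WT.leaf [1,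 3, 3, 1, 2, 1, 2, 1, 1, 3, 3, 1, 2, 1, 2, 1, 1, 1, 0, 0, 3, 0, 3, 0, 2, 2, 0, 0, 3, 0, 3, 0, 2, 2, 0, 0, 3, 0, 3, 0, 2, 2, 0, 0, 3, 0, 3, 0, 2, 2, 0, 0, 3, 0, 3, 0, 2, 2, 0, 3, 3, 1, 2, 1, 2, 1, 1, 3, 3, 1, 2, 1, 2, 1, 1, 3, 3, 1, 2, 1, 2, 1]) (WT.node 71 (WT.leaf [1, 2, 1, 2, 1, 3, 1, 1, 2, 1, 2, 1, 3, 1, 1, 2, 1, 2, 1, 3, 1, 1, 2, 1, 2, 1, 3, 1, 1, 0, 2, 0, 3, 0, 3, 0, 0, 2, 0, 3, 0, 3, 0, 0, 2, 0, 3, 0, 3, 0, 0, 2, 0, 3, 0, 3, 0, 0, 2, 0, 3, 0, 3, 0, 0, 2, 0, 3, 0, 3, 0, 0, 2, 0, 3, 0, 3, 0, 2, 1, 2, 1, 3, 1, 1, 2, 1, 2, 1, 3, 1, 1, 2, 1, 2, 1, 3, 1]) (WT.leaf [1, 3, 1, 1, 2, 1, 2, 1, 3, 1, 1, 2, 1, 2, 1, 3, 1, 1, 2, 1, 2, 1,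 3, 1, 1, 2, 1, 2, 1, 3, 1, 1, 0, 2, 0, 3, 0, 3, 0, 0, 2, 0, 3, 0, 3, 0, 0, 2, 0, 3, 0, 3, 0, 0, 2, 0, 3, 0, 3, 0, 0, 2, 0, 3, 0, 3, 0, 0, 2, 0, 3, 0, 3, 0, 0, 2, 0, 3, 0, 3, 0, 2, 1, 2, 1, 3, 1, 1, 2, 1, 2, 1, 3, 1, 1, 2, 1, 2])))) (WT.node 74 (WT.node 73 (WT.leaf [1, 1, 2, 1, 2, 1, 3, 1, 1, 2, 1, 2, 1, 3, 1, 1, 2, 1, 2, 1, 3, 1, 1, 0, 2, 0, 3, 0, 3, 0, 0, 2, 0, 3, 0, 3, 0, 0, 2, 0, 3, 0, 3, 0, 0, 2, 0, 3, 0, 3, 0, 0, 2, 0, 3, 0, 3, 0, 0, 2, 0, 3, 0, 3, 0, 0, 2, 0, 3, 0, 3, 0, 2, 1, 2, 1, 3, 1, 1, 2, 1, 2, 1, 3, 1, 1, 2, 1, 2, 1, 3, 1, 1, 2, 1, 2, 1, 3]) (WT.leaf [1, 1, 2, 1, 2, 1, 3, 1, 1, 2, 1, 2, 1, 3, 1, 1, 2, 1, 2, 1, 3, 1,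 1, 2, 1, 2, 1, 3, 1, 1, 2, 1, 2, 1, 3, 1, 1, 0, 2, 0, 3, 0, 3, 0, 0, 2, 0, 3, 0, 3, 0, 0, 2, 0, 3, 0, 3, 0, 0, 2, 0, 3, 0, 3, 0, 0, 2, 0, 3, 0, 3, 0, 0, 2, 0, 3, 0, 3, 0, 0, 2, 0, 3, 0, 3, 0, 2, 1, 2, 1, 3, 1, 1, 2, 1, 2, 1, 3])) (WT.node 75 (WT.leaf [1, 3, 0, 2, 0, 3, 0, 3, 0, 0, 2, 0, 3, 0, 3, 0, 0, 2, 0, 3, 0, 3, 0, 0, 2, 0, 3, 0, 3, 0, 0, 2, 0, 3, 0, 3, 0, 0, 2, 0, 3, 0, 3, 0, 0, 2, 0, 3, 0, 3, 0, 2, 1, 2, 1, 2, 1, 3, 1, 1, 2, 1, 2, 1, 3, 1, 1, 2, 1, 2, 1, 3, 1, 1, 2, 1, 2, 1, 3, 1, 1, 2, 1, 2, 1, 3, 1, 1, 2, 1, 2, 1, 3, 1, 1, 2, 1, 2, 1, 3]) (WT.node 76 (WT.leaf [2, 1, 2, 0, 3, 0, 3, 0, 3, 0, 3, 1, 2, 1, 2, 1]) (WT.leaf [2,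 1, 2, 1, 2, 1, 2, 1])))))))) (WT.node 116 (WT.node 96 (WT.node 86 (WT.node 81 (WT.node 79 (WT.node 78 (WT.leaf [2, 1, 1, 0, 3, 0, 0, 3, 0, 2, 1, 1]) (WT.leaf [2, 2, 2, 2, 2, 2, 2])) (WT.node 80 (WT.leaf [2, 2, 0, 0, 3, 0, 3, 0, 2, 2, 0, 0, 3, 0, 3, 0, 2, 2, 0, 0, 3, 0, 3, 0, 2, 2, 0, 0, 3, 0, 3, 0, 2, 2, 0, 0, 3, 0, 3, 0]) (WT.leaf [2, 1, 1, 2, 1, 1, 0, 3, 0, 0, 3, 0]))) (WT.node 83 (WT.node 82 (WT.leaf [2, 1, 2, 1, 2, 0, 3, 0, 3, 0, 3, 0, 3, 1, 2, 1]) (WT.leaf [2, 1, 2, 1, 1, 3, 3, 1, 2, 1, 2, 1, 1, 3, 0, 0, 3, 0, 3, 0, 2, 2, 0, 0, 3, 0, 3, 0, 2, 2, 0, 0, 3, 0, 3, 0, 2, 2, 0, 0, 3, 0, 3, 0, 2, 2, 0, 0, 3, 0, 3, 0, 2, 1, 2, 1, 2,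 1, 1, 3, 3, 1, 2, 1, 2, 1, 1, 3, 3, 1, 2, 1, 2, 1, 1, 3, 3, 1])) (WT.node 84 (WT.leaf [2, 0, 3, 0, 3, 0, 3, 0, 3, 1, 2, 1, 2, 1, 2, 1]) (WT.node 85 (WT.leaf [2, 0, 3, 0, 3, 1, 2, 1, 2, 0, 3, 0, 3, 1, 2, 1, 2, 0, 3, 0, 3, 1, 2, 1, 2, 0, 3, 0, 3, 1, 2, 1, 2, 0, 3, 0, 3, 3, 3, 3, 3, 3, 1, 2, 1, 2, 0, 3, 0, 3, 1, 2, 1, 2, 0, 3, 0, 3, 1, 2, 1, 2, 0, 3, 0, 3, 1, 2, 1]) (WT.leaf [2, 2, 0, 3, 3, 1, 2, 1, 2, 1, 1, 3, 3, 1, 2, 1, 2, 1, 1, 3, 3, 1, 2, 1, 2, 1, 1, 3, 3, 1, 2, 1, 2, 1, 1, 3, 3, 1, 2, 1, 2, 1, 1, 1, 0, 0, 3, 0, 3, 0, 2, 2, 0, 0, 3, 0, 3, 0, 2, 2, 0, 0, 3, 0, 3, 0, 2, 2, 0, 0, 3, 0, 3, 0, 2, 2, 0, 0, 3, 0, 3, 0]))))) (WT.node 91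 (WT.node 88 (WT.node 87 (WT.leaf [2, 2, 0, 0, 3, 0, 3, 0, 2, 2, 0, 3, 3, 1, 2, 1, 2, 1, 1, 3, 3, 1, 2, 1, 2, 1, 1, 3, 3, 1, 2, 1, 2, 1, 1, 3, 3, 1, 2, 1, 2, 1, 1, 3, 3, 1, 2, 1, 2, 1, 1, 1, 0, 0, 3, 0, 3, 0, 2, 2, 0, 0, 3, 0, 3, 0, 2, 2, 0, 0, 3, 0, 3, 0, 2, 2, 0, 0, 3, 0, 3, 0]) (WT.leaf [2, 1, 3, 0, 3, 0, 0, 3, 0, 2, 1, 2, 1, 1])) (WT.node 89 (WT.leaf [2, 0, 0, 3, 0, 3, 0, 2, 2, 0, 0, 3, 0, 3, 0, 2, 2, 0, 0, 3, 0, 3, 0, 2, 2, 0, 0, 3, 0, 3, 0, 2, 2, 0, 0, 3, 0, 3, 0, 2]) (WT.node 90 (WT.leaf [2, 1, 1, 2, 1, 3, 0, 3, 0, 0, 3, 0, 2, 1]) (WT.leaf [2, 0, 3, 0, 3, 1, 2, 1, 2, 0, 3, 0, 3, 1, 2, 1, 2, 0, 3, 0, 3, 1, 2, 1, 2, 0, 3, 0,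 3, 3, 3, 3, 3, 3, 1, 2, 1, 2, 0, 3, 0, 3, 1, 2, 1, 2, 0, 3, 0, 3, 1, 2, 1, 2, 0, 3, 0, 3, 1, 2, 1, 2, 0, 3, 0, 3, 1, 2, 1])))) (WT.node 93 (WT.node 92 (WT.leaf [2, 0, 0, 3, 0, 3, 0, 2, 2, 0, 0, 3, 0, 3, 0, 2, 1, 2, 1, 2, 1, 1, 3, 3, 1, 2, 1, 2, 1, 1, 3, 3, 1, 2, 1, 2, 1, 1, 3, 3, 1, 2, 1, 2, 1, 1, 3, 3, 1, 2, 1, 2, 1, 1, 3, 0, 0, 3, 0, 3, 0, 2, 2, 0, 0, 3, 0, 3, 0, 2, 2, 0, 0, 3, 0, 3, 0, 2]) (WT.leaf [2, 1, 3, 1, 1, 2, 1, 2, 1, 3, 1, 3, 0, 2, 0, 3, 0, 3, 0, 0, 2, 0, 3, 0, 3, 0, 0, 2, 0, 3, 0, 3, 0, 0, 2, 0, 3, 0, 3, 0, 0, 2, 0, 3, 0, 3, 0, 0, 2, 0, 3, 0, 3, 0, 0, 2, 0, 3, 0, 3, 0, 2, 1, 2, 1, 2, 1, 3, 1, 1, 2, 1, 2, 1, 3, 1, 1,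 2, 1, 2, 1, 3, 1, 1, 2, 1, 2, 1, 3, 1, 1, 2, 1, 2, 1, 3, 1, 1, 2, 1])) (WT.node 94 (WT.leaf [2, 1, 2, 1, 1, 3, 3, 1, 2, 1, 2, 1, 1, 3, 3, 1, 2, 1, 2, 1, 1, 3, 3, 1, 2, 1, 2, 1, 1, 1, 0, 0, 3, 0, 3, 0, 2, 2, 0, 0, 3, 0, 3, 0, 2, 2, 0, 0, 3, 0, 3, 0, 2, 2, 0, 0, 3, 0, 3, 0, 2, 2, 0, 0, 3, 0, 3, 0, 2, 2, 0, 3, 3, 1, 2, 1, 2, 1, 1, 3, 3, 1]) (WT.node 95 (WT.leaf [2, 0, 0, 3, 0, 3, 0, 2, 2, 0, 0, 3, 0, 3, 0, 2, 2, 0, 0, 3, 0, 3, 0, 2, 2, 0, 3, 3, 1, 2, 1, 2, 1, 1, 3, 3, 1, 2, 1, 2, 1, 1, 3, 3, 1, 2, 1, 2, 1, 1, 3, 3, 1, 2, 1, 2, 1, 1, 3, 3, 1, 2, 1, 2, 1, 1, 1, 0, 0, 3, 0, 3, 0, 2, 2, 0, 0, 3, 0, 3, 0, 2]) (WT.leaf [2, 2, 0, 0, 3, 0,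 3, 0, 2, 2, 0, 0, 3, 0, 3, 0, 2, 2, 0, 0, 3, 0, 3, 0, 2, 1, 2, 1, 2, 1, 1, 3, 3, 1, 2, 1, 2, 1, 1, 3, 3, 1, 2, 1, 2, 1, 1, 3, 3, 1, 2, 1, 2, 1, 1, 3, 3, 1, 2, 1, 2, 1, 1, 3, 0, 0, 3, 0, 3, 0, 2, 2, 0, 0, 3, 0, 3, 0])))))) (WT.node 106 (WT.node 101 (WT.node 98 (WT.node 97 (WT.leaf [2, 0, 3, 0, 3, 0, 0, 2, 0, 3, 0, 3, 0, 0, 2, 0, 3, 0, 3, 0, 0, 2, 0, 3, 0, 3, 0, 2, 1, 2, 1, 2, 1, 3, 1, 1, 2, 1, 2, 1, 3, 1, 1, 2, 1, 2, 1, 3, 1, 1, 2, 1, 2, 1, 3, 1, 1, 2, 1, 2, 1, 3, 1, 1, 2, 1, 2, 1, 3, 1, 1, 2, 1, 2, 1, 3, 1, 3, 0, 2, 0, 3, 0, 3, 0, 0, 2, 0, 3, 0, 3, 0, 0, 2, 0, 3, 0, 3, 0, 0]) (WT.leaf [2, 1, 2, 1, 3, 1, 1, 2, 1, 2, 1, 3, 1, 1, 2,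 1, 2, 1, 3, 1, 1, 2, 1, 2, 1, 3, 1, 1, 2, 1, 2, 1, 3, 1, 1, 0, 2, 0, 3, 0, 3, 0, 0, 2, 0, 3, 0, 3, 0, 0, 2, 0, 3, 0, 3, 0, 0, 2, 0, 3, 0, 3, 0, 0, 2, 0, 3, 0, 3, 0, 0, 2, 0, 3, 0, 3, 0, 0, 2, 0, 3, 0, 3, 0, 2, 1, 2, 1, 3, 1, 1, 2, 1, 2, 1, 3, 1, 1])) (WT.node 99 (WT.leaf [2, 2, 0, 0, 3, 0, 3, 0, 2, 2, 0, 0, 3, 0, 3, 0, 2, 2, 0, 3, 3, 1, 2, 1, 2, 1, 1, 3, 3, 1, 2, 1, 2, 1, 1, 3, 3, 1, 2, 1, 2, 1, 1, 3, 3, 1, 2, 1, 2, 1, 1, 3, 3, 1, 2, 1, 2, 1, 1, 1, 0, 0, 3, 0, 3, 0, 2, 2, 0, 0, 3, 0, 3, 0, 2, 2, 0, 0, 3, 0, 3, 0]) (WT.node 100 (WT.leaf [2, 0, 0, 3, 0, 3, 0, 2, 2, 0, 0, 3, 0, 3, 0, 2, 2, 0, 0, 3, 0, 3, 0, 2, 1, 2, 1, 2, 1, 1, 3, 3,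 1, 2, 1, 2, 1, 1, 3, 3, 1, 2, 1, 2, 1, 1, 3, 3, 1, 2, 1, 2, 1, 1, 3, 3, 1, 2, 1, 2, 1, 1, 3, 0, 0, 3, 0, 3, 0, 2, 2, 0, 0, 3, 0, 3, 0, 2]) (WT.leaf [2, 2, 0, 0, 3, 0, 3, 0, 2, 2, 0, 0, 3, 0, 3, 0, 2, 2, 0, 0, 3, 0, 3, 0, 2, 2, 0, 0, 3, 0, 3, 0, 2, 1, 2, 1, 2, 1, 1, 3, 3, 1, 2, 1, 2, 1, 1, 3, 3, 1, 2, 1, 2, 1, 1, 3, 3, 1, 2, 1, 2, 1, 1, 3, 3, 1, 2, 1, 2, 1, 1, 3, 0, 0, 3, 0, 3, 0])))) (WT.node 103 (WT.node 102 (WT.leaf [2, 2, 0, 0, 3, 0, 3, 0, 2, 2, 0, 0, 3, 0, 3, 0, 2, 2, 0, 0, 3, 0, 3, 0, 2, 2, 0, 0, 3, 0, 3, 0, 2, 2, 0, 3, 3, 1, 2, 1, 2, 1, 1, 3, 3, 1, 2, 1, 2, 1, 1, 3, 3, 1, 2, 1, 2, 1, 1, 3, 3, 1, 2, 1, 2, 1, 1, 3, 3, 1, 2, 1,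 2, 1, 1, 1, 0, 0, 3, 0, 3, 0]) (WT.leaf [2, 0, 3, 0, 3, 0, 0, 2, 0, 3, 0, 3, 0, 0, 2, 0, 3, 0, 3, 0, 0, 2, 0, 3, 0, 3, 0, 0, 2, 0, 3, 0, 3, 0, 0, 2, 0, 3, 0, 3, 0, 0, 2, 0, 3, 0, 3, 0, 0])) (WT.node 104 (WT.leaf [2, 0, 3, 0, 3, 0, 0, 2, 0, 3, 0, 3, 0, 0, 2, 0, 3, 0, 3, 0, 0, 2, 0, 3, 0, 3, 0, 2, 1, 2, 1, 3, 1, 1, 2, 1, 2, 1, 3, 1, 1, 2, 1, 2, 1, 3, 1, 1, 2, 1, 2, 1, 3, 1, 1, 2, 1, 2, 1, 3, 1, 1, 2, 1, 2, 1, 3, 1, 1, 2, 1, 2, 1, 3, 1, 1, 0, 2, 0, 3, 0, 3, 0, 0, 2, 0, 3, 0, 3, 0, 0, 2, 0, 3, 0, 3, 0, 0]) (WT.node 105 (WT.leaf [2, 0, 3, 3, 1, 2, 1, 2, 1, 1, 3, 3, 1, 2, 1, 2, 1, 1, 3, 3, 1, 2, 1, 2, 1, 1, 3, 3, 1, 2, 1, 2, 1, 1, 3, 3,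 1, 2, 1, 2, 1, 1, 1, 0, 0, 3, 0, 3, 0, 2, 2, 0, 0, 3, 0, 3, 0, 2, 2, 0, 0, 3, 0, 3, 0, 2, 2, 0, 0, 3, 0, 3, 0, 2, 2, 0, 0, 3, 0, 3, 0, 2]) (WT.leaf [2, 2, 0, 0, 3, 0, 3, 0, 2, 2, 0, 0, 3, 0, 3, 0, 2, 2, 0, 0, 3, 0, 3, 0, 2, 2, 0, 3, 3, 1, 2, 1, 2, 1, 1, 3, 3, 1, 2, 1, 2, 1, 1, 3, 3, 1, 2, 1, 2, 1, 1, 3, 3, 1, 2, 1, 2, 1, 1, 3, 3, 1, 2, 1, 2, 1, 1, 1, 0, 0, 3, 0, 3, 0, 2, 2, 0, 0, 3, 0, 3, 0]))))) (WT.node 111 (WT.node 108 (WT.node 107 (WT.leaf [2, 0, 0, 3, 0, 3, 0, 2, 2, 0, 0, 3, 0, 3, 0, 2, 2, 0, 3, 3, 1, 2, 1, 2, 1, 1, 3, 3, 1, 2, 1, 2, 1, 1, 3, 3, 1, 2, 1, 2, 1, 1, 3, 3, 1, 2, 1, 2, 1, 1, 3, 3, 1, 2, 1, 2, 1, 1, 1, 0, 0, 3, 0,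 3, 0, 2, 2, 0, 0, 3, 0, 3, 0, 2, 2, 0, 0, 3, 0, 3, 0, 2]) (WT.leaf [2, 0, 3, 0, 3, 0, 0, 2, 0, 3, 0, 3, 0, 0, 2, 0, 3, 0, 3, 0, 0, 2, 0, 3, 0, 3, 0, 0, 2, 0, 3, 0, 3, 0, 2, 1, 2, 1, 2, 1, 3, 1, 1, 2, 1, 2, 1, 3, 1, 1, 2, 1, 2, 1, 3, 1, 1, 2, 1, 2, 1, 3, 1, 1, 2, 1, 2, 1, 3, 1, 1, 2, 1, 2, 1, 3, 1, 1, 2, 1, 2, 1, 3, 1, 3, 0, 2, 0, 3, 0, 3, 0, 0, 2, 0, 3, 0, 3, 0, 0])) (WT.node 109 (WT.leaf [2, 0, 3, 0, 3, 0, 0, 2, 0, 3, 0, 3, 0, 0, 2, 0, 3, 0, 3, 0, 2, 1, 2, 1, 3, 1, 1, 2, 1, 2, 1, 3, 1, 1, 2, 1, 2, 1, 3, 1, 1, 2, 1, 2, 1, 3, 1, 1, 2, 1, 2, 1, 3, 1, 1, 2, 1, 2, 1, 3, 1, 1, 2, 1, 2, 1, 3, 1, 1, 0, 2, 0, 3, 0, 3, 0, 0, 2, 0, 3, 0, 3,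 0, 0, 2, 0, 3, 0, 3, 0, 0, 2, 0, 3, 0, 3, 0, 0]) (WT.node 110 (WT.leaf [2, 0, 0, 3, 0, 3, 0, 2, 2, 0, 0, 3, 0, 3, 0, 2, 2, 0, 0, 3, 0, 3, 0, 2, 2, 0, 0, 3, 0, 3, 0, 2, 2, 0, 3, 3, 1, 2, 1, 2, 1, 1, 3, 3, 1, 2, 1, 2, 1, 1, 3, 3, 1, 2, 1, 2, 1, 1, 3, 3, 1, 2, 1, 2, 1, 1, 3, 3, 1, 2, 1, 2, 1, 1, 1, 0, 0, 3, 0, 3, 0, 2]) (WT.leaf [2, 0, 3, 0, 3, 0, 0, 2, 0, 3, 0, 3, 0, 0, 2, 0, 3, 0, 3, 0, 0, 2, 0, 3, 0, 3, 0, 0, 2, 0, 3, 0, 3, 0, 0, 2, 0, 3, 0, 3, 0, 2, 1, 2, 1, 3, 1, 1, 2, 1, 2, 1, 3, 1, 1, 2, 1, 2, 1, 3, 1, 1, 2, 1, 2, 1, 3, 1, 1, 2, 1, 2, 1, 3, 1, 1, 2, 1, 2, 1, 3, 1, 1, 2, 1, 2, 1, 3, 1, 1, 0, 2, 0, 3, 0, 3, 0, 0])))) (WT.node 113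 (WT.node 112 (WT.leaf [2, 0, 3, 0, 3, 0, 0, 2, 0, 3, 0, 3, 0, 0, 2, 0, 3, 0, 3, 0, 0, 2, 0, 3, 0, 3, 0, 0, 2, 0, 3, 0, 3, 0, 0, 2, 0, 3, 0, 3, 0, 0, 2, 0, 3, 0, 3, 0, 2, 1, 2, 1, 3, 1, 1, 2, 1, 2, 1, 3, 1, 1, 2, 1, 2, 1, 3, 1, 1, 2, 1, 2, 1, 3, 1, 1, 2, 1, 2, 1, 3, 1, 1, 2, 1, 2, 1, 3, 1, 1, 2, 1, 2, 1, 3, 1, 1, 0]) (WT.leaf [2, 1, 3, 1, 1, 2, 1, 2, 1, 3, 1, 1, 2, 1, 2, 1, 3, 1, 1, 2, 1, 2, 1, 3, 1, 1, 2, 1, 2, 1, 3, 1, 1, 2, 1, 2, 1, 3, 1, 1, 2, 1, 2, 1, 3, 1, 1, 0, 2, 0, 3, 0, 3, 0, 0, 2, 0, 3, 0, 3, 0, 0, 2, 0, 3, 0, 3, 0, 0, 2, 0, 3, 0, 3, 0, 0, 2, 0, 3, 0, 3, 0, 0, 2, 0, 3, 0, 3, 0, 0, 2, 0, 3, 0, 3, 0, 2, 1])) (WT.node 114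 (WT.leaf [2, 1, 2, 1, 1, 3, 3, 1, 2, 1, 2, 1, 1, 3, 3, 1, 2, 1, 2, 1, 1, 3, 3, 1, 2, 1, 2, 1, 1, 3, 3, 1, 2, 1, 2, 1, 1, 1, 0, 0, 3, 0, 3, 0, 2, 2, 0, 0, 3, 0, 3, 0, 2, 2, 0, 0, 3, 0, 3, 0, 2, 2, 0, 0, 3, 0, 3, 0, 2, 2, 0, 0, 3, 0, 3, 0, 2, 2, 0, 3, 3, 1]) (WT.node 115 (WT.leaf [2, 0, 3, 0, 3, 0, 0, 2, 0, 3, 0, 3, 0, 0, 2, 0, 3, 0, 3, 0, 0, 2, 0, 3, 0, 3, 0, 0, 2, 0, 3, 0, 3, 0, 2, 1, 2, 1, 3, 1, 1, 2, 1, 2, 1, 3, 1, 1, 2, 1, 2, 1, 3, 1, 1, 2, 1, 2, 1, 3, 1, 1, 2, 1, 2, 1, 3, 1, 1, 2, 1, 2, 1, 3, 1, 1, 2, 1, 2, 1, 3, 1, 1, 0, 2, 0, 3, 0, 3, 0, 0, 2, 0, 3, 0, 3, 0, 0]) (WT.leaf [2, 1, 1, 3, 3, 1, 2, 1, 2, 1, 1, 3, 3, 1, 2, 1, 2, 1,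 1, 3, 3, 1, 2, 1, 2, 1, 1, 3, 3, 1, 2, 1, 2, 1, 1, 3, 0, 0, 3, 0, 3, 0, 2, 2, 0, 0, 3, 0, 3, 0, 2, 2, 0, 0, 3, 0, 3, 0, 2, 2, 0, 0, 3, 0, 3, 0, 2, 2, 0, 0, 3, 0, 3, 0, 2, 1, 2, 1]))))))) (WT.node 135 (WT.node 125 (WT.node 120 (WT.node 118 (WT.node 117 (WT.leaf [3, 0, 0, 3, 0, 0]) (WT.leaf [3, 0, 2, 1, 1, 2, 1, 1, 0, 3, 0, 0])) (WT.node 119 (WT.leaf [3, 0, 2, 1, 2, 1, 1, 2, 1, 3, 0, 3, 0, 0]) (WT.leaf [3, 0, 3, 1, 2, 1, 2, 1, 2, 1, 2, 0, 3, 0, 3, 0]))) (WT.node 122 (WT.node 121 (WT.leaf [3, 0, 0, 3, 0, 2, 1, 2, 1, 1, 2, 1, 3, 0]) (WT.leaf [3, 0, 2, 2, 0, 0, 3, 0, 3, 0, 2, 2, 0, 0, 3, 0, 3, 0, 2, 2, 0, 0, 3, 0, 3, 0, 2, 2, 0, 0, 3,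 0, 3, 0, 2, 2, 0, 0, 3, 0])) (WT.node 123 (WT.leaf [3, 0, 3, 0, 3, 1, 2, 1, 2, 1, 2, 1, 2, 0, 3, 0]) (WT.node 124 (WT.leaf [3, 1, 2, 1, 2, 0, 3, 0, 3, 1, 2, 1, 2, 0, 3, 0, 3, 1, 2, 1, 2, 0, 3, 0, 3, 1, 2, 1, 2, 0, 3, 0, 3, 3, 3, 3, 3, 3, 1, 2, 1, 2, 0, 3, 0, 3, 1, 2, 1, 2, 0, 3, 0, 3, 1, 2, 1, 2, 0, 3, 0, 3, 1, 2, 1, 2, 0, 3, 0]) (WT.leaf [3, 3, 1, 2, 1, 2, 1, 1, 1, 0, 0, 3, 0, 3, 0, 2, 2, 0, 0, 3, 0, 3, 0, 2, 2, 0, 0, 3, 0, 3, 0, 2, 2, 0, 0, 3, 0, 3, 0, 2, 2, 0, 0, 3, 0, 3, 0, 2, 2, 0, 3, 3, 1, 2, 1, 2, 1, 1, 3, 3, 1, 2, 1, 2, 1, 1, 3, 3, 1, 2, 1, 2, 1, 1, 3, 3, 1, 2, 1, 2, 1, 1]))))) (WT.node 130 (WT.node 127 (WT.node 126 (WT.leaf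 [3, 3, 1, 2, 1, 2, 1, 1, 3, 3, 1, 2, 1, 2, 1, 1, 3, 3, 1, 2, 1, 2, 1, 1, 3, 3, 1, 2, 1, 2, 1, 1, 3, 0, 0, 3, 0, 3, 0, 2, 2, 0, 0, 3, 0, 3, 0, 2, 2, 0, 0, 3, 0, 3, 0, 2, 2, 0, 0, 3, 0, 3, 0, 2, 2, 0, 0, 3, 0, 3, 0, 2, 1, 2, 1, 2, 1, 1]) (WT.leaf [3, 3, 1, 2, 1, 2, 1, 1, 3, 3, 1, 2, 1, 2, 1, 1, 3, 3, 1, 2, 1, 2, 1, 1, 1, 0, 0, 3, 0, 3, 0, 2, 2, 0, 0, 3, 0, 3, 0, 2, 2, 0, 0, 3, 0, 3, 0, 2, 2, 0, 0, 3, 0, 3, 0, 2, 2, 0, 0, 3, 0, 3, 0, 2, 2, 0, 3, 3, 1, 2, 1, 2, 1, 1, 3, 3, 1, 2, 1, 2, 1, 1])) (WT.node 128 (WT.leaf [3, 1, 2, 1, 2, 1, 2, 1, 2, 0, 3, 0, 3, 0, 3, 0]) (WT.node 129 (WT.leaf [3, 3, 1, 2, 1, 2, 1, 1, 3, 3, 1, 2, 1, 2, 1, 1,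 1, 0, 0, 3, 0, 3, 0, 2, 2, 0, 0, 3, 0, 3, 0, 2, 2, 0, 0, 3, 0, 3, 0, 2, 2, 0, 0, 3, 0, 3, 0, 2, 2, 0, 0, 3, 0, 3, 0, 2, 2, 0, 3, 3, 1, 2, 1, 2, 1, 1, 3, 3, 1, 2, 1, 2, 1, 1, 3, 3, 1, 2, 1, 2, 1, 1]) (WT.leaf [3, 1, 2, 1, 2, 1, 1, 3, 3, 1, 2, 1, 2, 1, 1, 3, 3, 1, 2, 1, 2, 1, 1, 3, 3, 1, 2, 1, 2, 1, 1, 3, 3, 1, 2, 1, 2, 1, 1, 1, 0, 0, 3, 0, 3, 0, 2, 2, 0, 0, 3, 0, 3, 0, 2, 2, 0, 0, 3, 0, 3, 0, 2, 2, 0, 0, 3, 0, 3, 0, 2, 2, 0, 0, 3, 0, 3, 0, 2, 2, 0, 3])))) (WT.node 132 (WT.node 131 (WT.leaf [3, 0, 0, 3, 0, 2, 1, 1, 2, 1, 1, 0]) (WT.leaf [3, 1, 2, 1, 2, 1, 1, 3, 0, 0, 3, 0, 3, 0, 2, 2, 0, 0, 3, 0, 3, 0, 2, 2, 0, 0, 3, 0, 3, 0, 2, 2,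 0, 0, 3, 0, 3, 0, 2, 2, 0, 0, 3, 0, 3, 0, 2, 1, 2, 1, 2, 1, 1, 3, 3, 1, 2, 1, 2, 1, 1, 3, 3, 1, 2, 1, 2, 1, 1, 3, 3, 1, 2, 1, 2, 1, 1, 3])) (WT.node 133 (WT.leaf [3, 1, 2, 1, 2, 1, 1, 3, 3, 1, 2, 1, 2, 1, 1, 3, 3, 1, 2, 1, 2, 1, 1, 3, 3, 1, 2, 1, 2, 1, 1, 1, 0, 0, 3, 0, 3, 0, 2, 2, 0, 0, 3, 0, 3, 0, 2, 2, 0, 0, 3, 0, 3, 0, 2, 2, 0, 0, 3, 0, 3, 0, 2, 2, 0, 0, 3, 0, 3, 0, 2, 2, 0, 3, 3, 1, 2, 1, 2, 1, 1, 3]) (WT.node 134 (WT.leaf [3, 1, 2, 1, 2, 1, 1, 3, 3, 1, 2, 1, 2, 1, 1, 3, 0, 0, 3, 0, 3, 0, 2, 2, 0, 0, 3, 0, 3, 0, 2, 2, 0, 0, 3, 0, 3, 0, 2, 2, 0, 0, 3, 0, 3, 0, 2, 2, 0, 0, 3, 0, 3, 0, 2, 1, 2, 1, 2, 1, 1, 3, 3, 1, 2, 1, 2, 1,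 1, 3, 3, 1, 2, 1, 2, 1, 1, 3]) (WT.leaf [3, 3, 1, 2, 1, 2, 1, 1, 3, 3, 1, 2, 1, 2, 1, 1, 3, 3, 1, 2, 1, 2, 1, 1, 3, 0, 0, 3, 0, 3, 0, 2, 2, 0, 0, 3, 0, 3, 0, 2, 2, 0, 0, 3, 0, 3, 0, 2, 2, 0, 0, 3, 0, 3, 0, 2, 2, 0, 0, 3, 0, 3, 0, 2, 1, 2, 1, 2, 1, 1, 3, 3, 1, 2, 1, 2, 1, 1])))))) (WT.node 145 (WT.node 140 (WT.node 137 (WT.node 136 (WT.leaf [3, 3, 1, 2, 1, 2, 1, 1, 3, 3, 1, 2, 1, 2, 1, 1, 3, 0, 0, 3, 0, 3, 0, 2, 2, 0, 0, 3, 0, 3, 0, 2, 2, 0, 0, 3, 0, 3, 0, 2, 2, 0, 0, 3, 0, 3, 0, 2, 2, 0, 0, 3, 0, 3, 0, 2, 1, 2, 1, 2, 1, 1, 3, 3, 1, 2, 1, 2, 1, 1, 3, 3, 1, 2, 1, 2, 1, 1]) (WT.leaf [3, 3, 1, 2, 1, 2, 1, 1, 3, 0, 0, 3, 0, 3, 0, 2, 2,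 0, 0, 3, 0, 3, 0, 2, 2, 0, 0, 3, 0, 3, 0, 2, 2, 0, 0, 3, 0, 3, 0, 2, 2, 0, 0, 3, 0, 3, 0, 2, 1, 2, 1, 2, 1, 1, 3, 3, 1, 2, 1, 2, 1, 1, 3, 3, 1, 2, 1, 2, 1, 1, 3, 3, 1, 2, 1, 2, 1, 1])) (WT.node 138 (WT.leaf [3, 0, 3, 0, 0, 2, 0, 3, 0, 3, 0, 0, 2, 0, 3, 0, 3, 0, 0, 2, 0, 3, 0, 3, 0, 0, 2, 0, 3, 0, 3, 0, 2, 1, 2, 1, 3, 1, 1, 2, 1, 2, 1, 3, 1, 1, 2, 1, 2, 1, 3, 1, 1, 2, 1, 2, 1, 3, 1, 1, 2, 1, 2, 1, 3, 1, 1, 2, 1, 2, 1, 3, 1, 1, 2, 1, 2, 1, 3, 1, 1, 0, 2, 0, 3, 0, 3, 0, 0, 2, 0, 3, 0, 3, 0, 0, 2, 0]) (WT.node 139 (WT.leaf [3, 0, 0, 2, 0, 3, 0, 3, 0, 0, 2, 0, 3, 0, 3, 0, 0, 2, 0, 3, 0, 3, 0, 0, 2, 0, 3, 0, 3, 0, 0, 2, 0, 3, 0, 3, 0,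 0, 2, 0, 3, 0, 3, 0, 0, 2, 0, 3, 0]) (WT.leaf [3, 1, 2, 1, 2, 1, 1, 3, 3, 1, 2, 1, 2, 1, 1, 3, 3, 1, 2, 1, 2, 1, 1, 3, 3, 1, 2, 1, 2, 1, 1, 3, 0, 0, 3, 0, 3, 0, 2, 2, 0, 0, 3, 0, 3, 0, 2, 2, 0, 0, 3, 0, 3, 0, 2, 2, 0, 0, 3, 0, 3, 0, 2, 2, 0, 0, 3, 0, 3, 0, 2, 1, 2, 1, 2, 1, 1, 3])))) (WT.node 142 (WT.node 141 (WT.leaf [3, 1, 2, 1, 2, 1, 1, 3, 3, 1, 2, 1, 2, 1, 1, 3, 3, 1, 2, 1, 2, 1, 1, 1, 0, 0, 3, 0, 3, 0, 2, 2, 0, 0, 3, 0, 3, 0, 2, 2, 0, 0, 3, 0, 3, 0, 2, 2, 0, 0, 3, 0, 3, 0, 2, 2, 0, 0, 3, 0, 3, 0, 2, 2, 0, 3, 3, 1, 2, 1, 2, 1, 1, 3, 3, 1, 2, 1, 2, 1, 1, 3]) (WT.leaf [3, 1, 1, 2, 1, 2, 1, 3, 1, 1, 2, 1, 2, 1, 3, 1, 1, 2, 1, 2,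 1, 3, 1, 1, 2, 1, 2, 1, 3, 1, 1, 2, 1, 2, 1, 3, 1, 1, 0, 2, 0, 3, 0, 3, 0, 0, 2, 0, 3, 0, 3, 0, 0, 2, 0, 3, 0, 3, 0, 0, 2, 0, 3, 0, 3, 0, 0, 2, 0, 3, 0, 3, 0, 0, 2, 0, 3, 0, 3, 0, 0, 2, 0, 3, 0, 3, 0, 2, 1, 2, 1, 3, 1, 1, 2, 1, 2, 1])) (WT.node 143 (WT.leaf [3, 1, 2, 1, 2, 1, 1, 3, 3, 1, 2, 1, 2, 1, 1, 1, 0, 0, 3, 0, 3, 0, 2, 2, 0, 0, 3, 0, 3, 0, 2, 2, 0, 0, 3, 0, 3, 0, 2, 2, 0, 0, 3, 0, 3, 0, 2, 2, 0, 0, 3, 0, 3, 0, 2, 2, 0, 3, 3, 1, 2, 1, 2, 1, 1, 3, 3, 1, 2, 1, 2, 1, 1, 3, 3, 1, 2, 1, 2, 1, 1, 3]) (WT.node 144 (WT.leaf [3, 0, 3, 0, 0, 2, 0, 3, 0, 3, 0, 0, 2, 0, 3, 0, 3, 0, 0, 2, 0, 3, 0, 3, 0, 0, 2, 0, 3, 0, 3, 0, 2, 1, 2, 1,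 2, 1, 3, 1, 1, 2, 1, 2, 1, 3, 1, 1, 2, 1, 2, 1, 3, 1, 1, 2, 1, 2, 1, 3, 1, 1, 2, 1, 2, 1, 3, 1, 1, 2, 1, 2, 1, 3, 1, 1, 2, 1, 2, 1, 3, 1, 3, 0, 2, 0, 3, 0, 3, 0, 0, 2, 0, 3, 0, 3, 0, 0, 2, 0]) (WT.leaf [3, 1, 1, 2, 1, 2, 1, 3, 1, 1, 2, 1, 2, 1, 3, 1, 1, 2, 1, 2, 1, 3, 1, 1, 2, 1, 2, 1, 3, 1, 1, 0, 2, 0, 3, 0, 3, 0, 0, 2, 0, 3, 0, 3, 0, 0, 2, 0, 3, 0, 3, 0, 0, 2, 0, 3, 0, 3, 0, 0, 2, 0, 3, 0, 3, 0, 0, 2, 0, 3, 0, 3, 0, 0, 2, 0, 3, 0, 3, 0, 2, 1, 2, 1, 3, 1, 1, 2, 1, 2, 1, 3, 1, 1, 2, 1, 2, 1]))))) (WT.node 150 (WT.node 147 (WT.node 146 (WT.leaf [3, 0, 3, 0, 2, 2, 0, 0, 3, 0, 3, 0, 2, 2, 0, 0, 3, 0, 3, 0, 2, 1, 2, 1, 2, 1, 1, 3, 3,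 1, 2, 1, 2, 1, 1, 3, 3, 1, 2, 1, 2, 1, 1, 3, 3, 1, 2, 1, 2, 1, 1, 3, 3, 1, 2, 1, 2, 1, 1, 3, 0, 0, 3, 0, 3, 0, 2, 2, 0, 0, 3, 0, 3, 0, 2, 2, 0, 0]) (WT.leaf [3, 3, 1, 2, 1, 2, 1, 1, 3, 3, 1, 2, 1, 2, 1, 1, 3, 3, 1, 2, 1, 2, 1, 1, 3, 3, 1, 2, 1, 2, 1, 1, 1, 0, 0, 3, 0, 3, 0, 2, 2, 0, 0, 3, 0, 3, 0, 2, 2, 0, 0, 3, 0, 3, 0, 2, 2, 0, 0, 3, 0, 3, 0, 2, 2, 0, 0, 3, 0, 3, 0, 2, 2, 0, 3, 3, 1, 2, 1, 2, 1, 1])) (WT.node 148 (WT.leaf [3, 0, 2, 2, 0, 0, 3, 0, 3, 0, 2, 2, 0, 0, 3, 0, 3, 0, 2, 2, 0, 0, 3, 0, 3, 0, 2, 2, 0, 0, 3, 0, 3, 0, 2, 1, 2, 1, 2, 1, 1, 3, 3, 1, 2, 1, 2, 1, 1, 3, 3, 1, 2, 1, 2, 1, 1, 3, 3, 1, 2, 1, 2, 1, 1, 3, 3, 1, 2, 1,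 2, 1, 1, 3, 0, 0, 3, 0]) (WT.node 149 (WT.leaf [3, 1, 1, 2, 1, 2, 1, 3, 1, 1, 2, 1, 2, 1, 3, 1, 1, 0, 2, 0, 3, 0, 3, 0, 0, 2, 0, 3, 0, 3, 0, 0, 2, 0, 3, 0, 3, 0, 0, 2, 0, 3, 0, 3, 0, 0, 2, 0, 3, 0, 3, 0, 0, 2, 0, 3, 0, 3, 0, 0, 2, 0, 3, 0, 3, 0, 2, 1, 2, 1, 3, 1, 1, 2, 1, 2, 1, 3, 1, 1, 2, 1, 2, 1, 3, 1, 1, 2, 1, 2, 1, 3, 1, 1, 2, 1, 2, 1]) (WT.leaf [3, 1, 1, 2, 1, 2, 1, 3, 1, 1, 2, 1, 2, 1, 3, 1, 1, 2, 1, 2, 1, 3, 1, 1, 0, 2, 0, 3, 0, 3, 0, 0, 2, 0, 3, 0, 3, 0, 0, 2, 0, 3, 0, 3, 0, 0, 2, 0, 3, 0, 3, 0, 0, 2, 0, 3, 0, 3, 0, 0, 2, 0, 3, 0, 3, 0, 0, 2, 0, 3, 0, 3, 0, 2, 1, 2, 1, 3, 1, 1, 2, 1, 2, 1, 3, 1, 1, 2, 1, 2, 1, 3, 1, 1, 2,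 1, 2, 1])))) (WT.node 152 (WT.node 151 (WT.leaf [3, 0, 0, 2, 0, 3, 0, 3, 0, 0, 2, 0, 3, 0, 3, 0, 0, 2, 0, 3, 0, 3, 0, 0, 2, 0, 3, 0, 3, 0, 0, 2, 0, 3, 0, 3, 0, 0, 2, 0, 3, 0, 3, 0, 2, 1, 2, 1, 3, 1, 1, 2, 1, 2, 1, 3, 1, 1, 2, 1, 2, 1, 3, 1, 1, 2, 1, 2, 1, 3, 1, 1, 2, 1, 2, 1, 3, 1, 1, 2, 1, 2, 1, 3, 1, 1, 2, 1, 2, 1, 3, 1, 1, 0, 2, 0, 3, 0]) (WT.leaf [3, 1, 2, 1, 2, 1, 1, 1, 0, 0, 3, 0, 3, 0, 2, 2, 0, 0, 3, 0, 3, 0, 2, 2, 0, 0, 3, 0, 3, 0, 2, 2, 0, 0, 3, 0, 3, 0, 2, 2, 0, 0, 3, 0, 3, 0, 2, 2, 0, 3, 3, 1, 2, 1, 2, 1, 1, 3, 3, 1, 2, 1, 2, 1, 1, 3, 3, 1, 2, 1, 2, 1, 1, 3, 3, 1, 2, 1, 2, 1, 1, 3])) (WT.node 153 (WT.leaf [3, 1, 1, 2,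 1, 2, 1, 3, 1, 1, 2, 1, 2, 1, 3, 1, 1, 2, 1, 2, 1, 3, 1, 1, 2, 1, 2, 1, 3, 1, 1, 2, 1, 2, 1, 3, 1, 3, 0, 2, 0, 3, 0, 3, 0, 0, 2, 0, 3, 0, 3, 0, 0, 2, 0, 3, 0, 3, 0, 0, 2, 0, 3, 0, 3, 0, 0, 2, 0, 3, 0, 3, 0, 0, 2, 0, 3, 0, 3, 0, 0, 2, 0, 3, 0, 3, 0, 2, 1, 2, 1, 2, 1, 3, 1, 1, 2, 1, 2, 1]) (WT.node 154 (WT.leaf [3, 1, 1, 2, 1, 2, 1, 3, 1, 1, 2, 1, 2, 1, 3, 1, 1, 2, 1, 2, 1, 3, 1, 1, 2, 1, 2, 1, 3, 1, 1, 2, 1, 2, 1, 3, 1, 1, 2, 1, 2, 1, 3, 1, 1, 0, 2, 0, 3, 0, 3, 0, 0, 2, 0, 3, 0, 3, 0, 0, 2, 0, 3, 0, 3, 0, 0, 2, 0, 3, 0, 3, 0, 0, 2, 0, 3, 0, 3, 0, 0, 2, 0, 3, 0, 3, 0, 0, 2, 0, 3, 0, 3, 0, 2, 1, 2, 1]) (WT.leaf [3, 0, 2, 1, 2, 1, 2,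 1, 3, 1, 1, 2, 1, 2, 1, 3, 1, 1, 2, 1, 2, 1, 3, 1, 1, 2, 1, 2, 1, 3, 1, 1, 2, 1, 2, 1, 3, 1, 1, 2, 1, 2, 1, 3, 1, 1, 2, 1, 2, 1, 3, 1, 3, 0, 2, 0, 3, 0, 3, 0, 0, 2, 0, 3, 0, 3, 0, 0, 2, 0, 3, 0, 3, 0, 0, 2, 0, 3, 0, 3, 0, 0, 2, 0, 3, 0, 3, 0, 0, 2, 0, 3, 0, 3, 0, 0, 2, 0, 3, 0])))))))))

/-- The sources of the rotated relators: relator and rotation. -/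
def rotSrc : List (ℕ × ℕ) := [(0, 1), (4, 3), (6, 12), (12, 2), (4, 5), (6, 14), (5, 5), (4, 2), (12, 3), (10, 16), (5, 2), (15, 32), (11, 5), (11, 9), (10, 8), (10, 37), (14, 23), (11, 24), (11, 16), (8, 25), (5, 0), (5, 3), (14, 48), (11, 13), (8, 16), (10, 17), (10, 3), (8, 7), (11, 8), (8, 23), (10, 24), (8, 2), (10, 21), (10, 29), (8, 9), (8, 14), (10, 9), (8, 30), (10, 13), (8, 37), (9, 48), (8, 4), (9, 44), (4, 8), (5, 12), (4, 10), (6, 4), (4, 7), (6, 6), (10, 48), (10, 51), (9, 91), (5, 10), (11, 76), (5, 7), (7, 0), (10, 72), (5, 9), (10, 75), (9, 68), (8, 76), (8, 89), (10, 67), (11, 60), (10, 43), (8, 68), (8, 55), (10,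 56), (8, 54), (10, 64), (8, 69), (8, 66), (8, 75), (8, 61), (9, 98), (6, 5), (13, 1), (4, 9), (1, 1), (15, 22), (4, 6), (6, 3), (11, 64), (6, 7), (3, 28), (10, 38), (10, 30), (5, 11), (15, 31), (5, 8), (3, 36), (11, 23), (9, 88), (10, 52), (10, 15), (11, 14), (9, 22), (8, 63), (10, 22), (11, 15), (11, 6), (10, 6), (14, 1), (8, 22), (10, 39), (10, 14), (10, 23), (9, 15), (8, 29), (10, 7), (8, 8), (8, 1), (8, 51), (10, 44), (8, 15), (11, 42), (12, 1), (4, 4), (5, 4), (6, 13), (5, 1), (15, 4), (6, 11), (3, 32), (10, 73), (11, 45), (10, 57), (7, 15), (10, 65), (10, 42), (4, 1), (11, 70), (10, 50), (11, 62), (11, 53), (11, 61), (11, 69),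 (8, 17), (14, 47), (11, 46), (10, 58), (8, 60), (10, 66), (9, 17), (8, 67), (11, 18), (10, 49), (11, 4), (8, 81), (8, 74), (8, 5), (10, 74), (9, 62), (8, 53), (9, 47)]

/-- The relators, as words of columns. -/
def relWords : List (List ℕ) := [[0, 0, 0, 0, 0], [2, 2, 2, 2, 2, 2, 2], [3, 0, 2, 1, 2, 0, 3, 1, 3, 0, 2, 1, 2, 0, 3, 1, 3, 0, 2, 1, 2, 0, 3, 1, 3, 0, 2, 1, 2, 0, 3, 1, 3, 0, 2, 1, 2, 0, 3, 1, 3, 0, 2, 1, 2, 0, 3, 1, 3, 0, 2, 1, 2, 0, 3, 1, 3, 0, 2, 1, 2, 0, 3, 1, 3, 0, 2, 1, 2, 0, 3, 1, 3, 0, 2, 1, 2, 0, 3, 1, 3, 0, 2, 1, 2, 0, 3, 1, 3, 0, 2, 1, 2, 0, 3, 1, 3, 0, 2, 1, 2, 0, 3, 1, 3, 0, 2, 1, 2, 0, 3, 1, 3, 0, 2, 1, 2, 0,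 3, 1, 3, 0, 2, 1, 2, 0, 3, 1, 1], [3, 1, 2, 1, 2, 0, 3, 0, 3, 1, 2, 1, 2, 0, 3, 0, 3, 1, 2, 1, 2, 0, 3, 0, 3, 1, 2, 1, 2, 0, 3, 0, 3, 1, 2, 1, 2, 0, 3, 0, 3, 1, 2, 1, 2, 0, 3, 0, 3, 1, 2, 1, 2, 0, 3, 0, 3, 1, 2, 1, 2, 0, 3, 0, 3, 3, 3, 3, 3], [0, 3, 0, 0, 3, 0, 2, 1, 1, 2, 1, 1], [0, 3, 0, 0, 3, 0, 2, 1, 2, 1, 1, 2, 1, 3], [1, 2, 1, 2, 1, 2, 1, 2, 0, 3, 0, 3, 0, 3, 0, 3], [1, 2, 1, 2, 1, 2, 1, 2, 0, 3, 0, 3, 0, 3, 0, 3], [0, 2, 0, 3, 0, 3, 0, 0, 2, 0, 3, 0, 3, 0, 0, 2, 0, 3, 0, 3, 0, 0, 2, 0, 3, 0, 3, 0, 0, 2, 0, 3, 0, 3, 0, 0, 2, 0, 3, 0, 3, 0, 0, 2, 0, 3, 0, 3, 0, 2, 1, 2, 1, 3, 1, 1, 2, 1, 2, 1, 3, 1, 1, 2, 1, 2, 1, 3, 1, 1, 2,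 1, 2, 1, 3, 1, 1, 2, 1, 2, 1, 3, 1, 1, 2, 1, 2, 1, 3, 1, 1, 2, 1, 2, 1, 3, 1, 1], [0, 2, 0, 3, 0, 3, 0, 0, 2, 0, 3, 0, 3, 0, 0, 2, 0, 3, 0, 3, 0, 0, 2, 0, 3, 0, 3, 0, 0, 2, 0, 3, 0, 3, 0, 0, 2, 0, 3, 0, 3, 0, 0, 2, 0, 3, 0, 3, 0, 2, 1, 2, 1, 2, 1, 3, 1, 1, 2, 1, 2, 1, 3, 1, 1, 2, 1, 2, 1, 3, 1, 1, 2, 1, 2, 1, 3, 1, 1, 2, 1, 2, 1, 3, 1, 1, 2, 1, 2, 1, 3, 1, 1, 2, 1, 2, 1, 3, 1, 3], [0, 0, 3, 0, 3, 0, 2, 2, 0, 0, 3, 0, 3, 0, 2, 2, 0, 0, 3, 0, 3, 0, 2, 2, 0, 0, 3, 0, 3, 0, 2, 2, 0, 0, 3, 0, 3, 0, 2, 2, 0, 3, 3, 1, 2, 1, 2, 1, 1, 3, 3, 1, 2, 1, 2, 1, 1, 3, 3, 1, 2, 1, 2, 1, 1, 3, 3, 1, 2, 1, 2, 1, 1, 3, 3, 1, 2, 1, 2, 1, 1, 1], [0, 0,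 3, 0, 3, 0, 2, 2, 0, 0, 3, 0, 3, 0, 2, 2, 0, 0, 3, 0, 3, 0, 2, 2, 0, 0, 3, 0, 3, 0, 2, 2, 0, 0, 3, 0, 3, 0, 2, 1, 2, 1, 2, 1, 1, 3, 3, 1, 2, 1, 2, 1, 1, 3, 3, 1, 2, 1, 2, 1, 1, 3, 3, 1, 2, 1, 2, 1, 1, 3, 3, 1, 2, 1, 2, 1, 1, 3], [0, 3, 0, 0, 3, 0], [1, 2, 1, 2, 1, 2, 1, 2], [0, 2, 0, 3, 0, 3, 0, 0, 2, 0, 3, 0, 3, 0, 0, 2, 0, 3, 0, 3, 0, 0, 2, 0, 3, 0, 3, 0, 0, 2, 0, 3, 0, 3, 0, 0, 2, 0, 3, 0, 3, 0, 0, 2, 0, 3, 0, 3, 0], [0, 0, 3, 0, 3, 0, 2, 2, 0, 0, 3, 0, 3, 0, 2, 2, 0, 0, 3, 0, 3, 0, 2, 2, 0, 0, 3, 0, 3, 0, 2, 2, 0, 0, 3, 0, 3, 0, 2, 2]]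

/-- The words of the auxiliary columns. -/
def aux : List (List ℕ) := [[0, 2, 0, 3, 0, 3, 0], [0, 0, 3, 0, 3, 0, 2, 2]]

/-- The words checked on the permutation model, with auxiliary columns. -/
def mwordsA : List (List ℕ) := [[0, 0, 0, 0, 0], [2, 2, 2, 2, 2, 2, 2], [3, 0, 2, 1, 2, 0, 3, 1, 3, 0, 2, 1, 2, 0, 3, 1, 3, 0, 2, 1, 2, 0, 3, 1, 3, 0, 2, 1, 2, 0, 3, 1, 3, 0, 2, 1, 2, 0, 3, 1, 3, 0, 2, 1, 2, 0, 3, 1, 3, 0, 2, 1, 2, 0, 3, 1, 3, 0, 2, 1, 2, 0, 3, 1, 3, 0, 2, 1, 2, 0, 3, 1, 3, 0, 2, 1, 2, 0, 3, 1, 3, 0, 2, 1, 2, 0, 3, 1, 3, 0, 2, 1, 2, 0, 3, 1, 3, 0, 2, 1, 2, 0, 3, 1, 3, 0, 2, 1, 2, 0, 3, 1, 3, 0, 2, 1, 2, 0, 3, 1, 3, 0, 2,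 1, 2, 0, 3, 1, 1], [3, 1, 2, 1, 2, 0, 3, 0, 3, 1, 2, 1, 2, 0, 3, 0, 3, 1, 2, 1, 2, 0, 3, 0, 3, 1, 2, 1, 2, 0, 3, 0, 3, 1, 2, 1, 2, 0, 3, 0, 3, 1, 2, 1, 2, 0, 3, 0, 3, 1, 2, 1, 2, 0, 3, 0, 3, 1, 2, 1, 2, 0, 3, 0, 3, 3, 3, 3, 3], [0, 3, 0, 0, 3, 0, 2, 1, 1, 2, 1, 1], [0, 3, 0, 0, 3, 0, 2, 1, 2, 1, 1, 2, 1, 3], [1, 2, 1, 2, 1, 2, 1, 2, 0, 3, 0, 3, 0, 3, 0, 3], [1, 2, 1, 2, 1, 2, 1, 2, 0, 3, 0, 3, 0, 3, 0, 3], [0, 2, 0, 3, 0, 3, 0, 0, 2, 0, 3, 0, 3, 0, 0, 2, 0, 3, 0, 3, 0, 0, 2, 0, 3, 0, 3, 0, 0, 2, 0, 3, 0, 3, 0, 0, 2, 0, 3, 0, 3, 0, 0, 2, 0, 3, 0, 3, 0, 2, 1, 2, 1, 3, 1, 1, 2, 1, 2, 1, 3, 1, 1, 2, 1, 2, 1, 3, 1, 1, 2, 1, 2, 1, 3, 1,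 1, 2, 1, 2, 1, 3, 1, 1, 2, 1, 2, 1, 3, 1, 1, 2, 1, 2, 1, 3, 1, 1], [0, 2, 0, 3, 0, 3, 0, 0, 2, 0, 3, 0, 3, 0, 0, 2, 0, 3, 0, 3, 0, 0, 2, 0, 3, 0, 3, 0, 0, 2, 0, 3, 0, 3, 0, 0, 2, 0, 3, 0, 3, 0, 0, 2, 0, 3, 0, 3, 0, 2, 1, 2, 1, 2, 1, 3, 1, 1, 2, 1, 2, 1, 3, 1, 1, 2, 1, 2, 1, 3, 1, 1, 2, 1, 2, 1, 3, 1, 1, 2, 1, 2, 1, 3, 1, 1, 2, 1, 2, 1, 3, 1, 1, 2, 1, 2, 1, 3, 1, 3], [0, 0, 3, 0, 3, 0, 2, 2, 0, 0, 3, 0, 3, 0, 2, 2, 0, 0, 3, 0, 3, 0, 2, 2, 0, 0, 3, 0, 3, 0, 2, 2, 0, 0, 3, 0, 3, 0, 2, 2, 0, 3, 3, 1, 2, 1, 2, 1, 1, 3, 3, 1, 2, 1, 2, 1, 1, 3, 3, 1, 2, 1, 2, 1, 1, 3, 3, 1, 2, 1, 2, 1, 1, 3, 3, 1, 2, 1, 2, 1, 1, 1], [0, 0, 3, 0, 3, 0, 2,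 2, 0, 0, 3, 0, 3, 0, 2, 2, 0, 0, 3, 0, 3, 0, 2, 2, 0, 0, 3, 0, 3, 0, 2, 2, 0, 0, 3, 0, 3, 0, 2, 1, 2, 1, 2, 1, 1, 3, 3, 1, 2, 1, 2, 1, 1, 3, 3, 1, 2, 1, 2, 1, 1, 3, 3, 1, 2, 1, 2, 1, 1, 3, 3, 1, 2, 1, 2, 1, 1, 3], [0, 3, 0, 0, 3, 0], [1, 2, 1, 2, 1, 2, 1, 2], [4, 4, 4, 4, 4, 4, 4], [5, 5, 5, 5, 5]]

/-- The table. -/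
noncomputable def tab : Tab where
  k := 4
  inv := fun c => (bif Nat.beq c 0 then 1 else (bif Nat.beq c 1 then 0 else (bif Nat.beq c 2 then 3 else (bif Nat.beq c 3 then 2 else c))))
  N := 4160
  n := 4160
  Tmax := 16641
  wn := 13
  mn := 0x1fff
  subs := [[2]]
  rot := fun i => rotT.getF i
  ent := fun c i => bget2 entT_0 4 9 28 0xfffffff 511 c i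
  cer := fun c i => bget2 cerT_0 3 10 11 0x7ff 1023 c i
  tau := fun c i => bget2 tauT_0 3 10 13 0x1fff 1023 c i
  lk := fun i => bget lkT_0 14 1 0x1 16383 i
  lc := fun i => bget lcT_0 14 1 0x1 16383 i
  pn := fun i => bget pnT_0 10 15 0x7fff 1023 i
  cls := fun i => bget clsT_0 10 13 0x1fff 1023 i
  rep := fun i => bget repT_0 10 13 0x1fff 1023 i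

end Cfsg.Agent.Helper9.TCData.Sz8A0
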